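import Cfsg.Agent.RankOne.Basic

/-!
Rank-one groups on nine points with a two-point stabiliser of order dividing three: a regular normal
subgroup of order nine, of exponent three, and no nine-cycle.
-/

set_option autoImplicit false

open Subgroup MulAction

namespace Cfsg.Agent.RankOneClass.UniLines.Nine

open Cfsg.Agent.RankOne

variable {I Ψ : Type*} [Group I] [Finite I] [MulAction I Ψ] [FaithfulSMul I Ψ] {b : Ψ} {t : I}
  {R : Subgroup I}

theorem nine_cards (hS : Cfsg.IsRankOneSetup I Ψ b t R) (h9 : Nat.card Ψ = 9)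
    (hD : Nat.card (twoPt I b t) ∣ 3) :
    Nat.card R = 8 ∧ (Nat.card I = 72 ∨ Nat.card I = 216) := by
  have hR : Nat.card R = 8 := by have := card_points hS; omega
  refine ⟨hR, ?_⟩
  rw [card_group hS, hR]
  rcases (Nat.dvd_prime Nat.prime_three).1 hD with h | h <;> rw [h] <;> norm_num

/-- A nontrivial normal subgroup is transitive. -/
theorem normal_transitive (hS : Cfsg.IsRankOneSetup I Ψ b t R) {M : Subgroup I} [hM : M.Normal]
    (hne : M ≠ ⊥) (c : Ψ) : ∃ m ∈ M, m • b = c := by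
  by_cases hcb : c = b
  · exact ⟨1, one_mem _, by rw [one_smul, hcb]⟩
  obtain ⟨m, hm, hmb⟩ : ∃ m ∈ M, m • b ≠ b := by
    by_contra hall
    push Not at hall
    refine hne ((Subgroup.eq_bot_iff_forall M).2 fun m hm => ?_)
    refine FaithfulSMul.eq_of_smul_eq_smul (α := Ψ) fun d => ?_
    rw [one_smul]
    obtain ⟨g, rfl⟩ := exists_smul hS b d
    have := hall _ (hM.conj_mem m hm g⁻¹)
    rwa [inv_inv, mul_smul, mul_smul, inv_smul_eq_iff] at this
  obtain ⟨x, hx, -⟩ := regular hS hmb hcb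
  refine ⟨(x : I) * m * (x : I)⁻¹, hM.conj_mem m hm x, ?_⟩
  rw [mul_smul, mul_smul, smul_a_of_mem_Q hS (inv_mem x.2)]
  exact hx

/-- An element fixing `b` that centralises `R` and has odd prime order not dividing `8` is trivial. -/
theorem eq_one_of_cent (hS : Cfsg.IsRankOneSetup I Ψ b t R) (h9 : Nat.card Ψ = 9) {x : I}
    (hxb : x • b = b) (hx3 : x ^ 3 = 1) (hc : ∀ r ∈ R, Commute x r) : x = 1 := by
  classical
  haveI : Finite Ψ := finite_points hS
  obtain ⟨c, hcb, hxc⟩ : ∃ c, c ≠ b ∧ x • c = c := by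
    have hp : IsPGroup 3 (zpowers x) := fun g => ⟨1, Subtype.ext (by
      obtain ⟨i, hi⟩ := mem_zpowers_iff.1 g.2
      rw [pow_one, Subgroup.coe_pow, ← hi, ← zpow_natCast, ← zpow_mul, mul_comm, zpow_mul,
        zpow_natCast, hx3, one_zpow]; rfl)⟩
    haveI : Fact (Nat.Prime 3) := ⟨Nat.prime_three⟩
    let U : SubMulAction (zpowers x) Ψ :=
      { carrier := {c | c ≠ b}
        smul_mem' := fun g c hc' e => hc' (by
          have hgb : (g : I) • b = b := by
            have hle : zpowers x ≤ stabilizer I b := zpowers_le.2 hxb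
            exact hle g.2
          exact MulAction.injective (g : I) (e.trans hgb.symm)) }
    have hU : Nat.card U = 8 := by
      have h := Set.ncard_add_ncard_compl ({b} : Set Ψ)
      rw [Set.ncard_singleton, h9] at h
      change Nat.card ({b}ᶜ : Set Ψ) = 8
      rw [Nat.card_coe_set_eq]
      omega
    obtain ⟨c, hc'⟩ := hp.nonempty_fixed_point_of_prime_not_dvd_card U (by rw [hU]; norm_num)
    exact ⟨c, c.2, congrArg Subtype.val (hc' ⟨x, mem_zpowers x⟩)⟩
  refine FaithfulSMul.eq_of_smul_eq_smul (α := Ψ) fun d => ?_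
  rw [one_smul]
  by_cases hdb : d = b
  · rw [hdb, hxb]
  obtain ⟨r, hr, -⟩ := regular hS hcb hdb
  rw [← hr, smul_smul, (hc r r.2).eq, mul_smul, hxc]

/-- The regular normal subgroup. -/
theorem exists_regular_normal (hS : Cfsg.IsRankOneSetup I Ψ b t R) (h9 : Nat.card Ψ = 9)
    (hD : Nat.card (twoPt I b t) ∣ 3) :
    ∃ S : Subgroup I, S.Normal ∧ Nat.card S = 9 ∧ S ⊓ stabilizer I b = ⊥ := by
  classical
  obtain ⟨hR, hI⟩ := nine_cards hS h9 hD
  haveI : Fact (Nat.Prime 3) := ⟨Nat.prime_three⟩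
  haveI : Finite Ψ := finite_points hS
  obtain ⟨P⟩ : Nonempty (Sylow 3 I) := inferInstance
  set M := (normalizer ((P : Subgroup I) : Set I)).normalCore with hMdef
  have hn : (normalizer ((P : Subgroup I) : Set I)).index ∣ 4 := by
    show (normalizer (P : Set I)).index ∣ 4
    rw [← P.card_eq_index_normalizer]
    have h1 : Nat.card (Sylow 3 I) ∣ 8 := by
      refine P.card_dvd_index.trans ?_
      have h216 : (P : Subgroup I).index ∣ 8 * 27 :=
        (index_dvd_card _).trans (by rcases hI with h | h <;> rw [h] <;> norm_num)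
      exact (Nat.Coprime.pow_right 3 ((Nat.prime_three.coprime_iff_not_dvd.2
        P.not_dvd_index).symm)).dvd_of_dvd_mul_right h216
    have h2 : Nat.card (Sylow 3 I) ≡ 1 [MOD 3] := card_sylow_modEq_one 3 I
    have h3 : Nat.card (Sylow 3 I) ≤ 8 := Nat.le_of_dvd (by norm_num) h1
    unfold Nat.ModEq at h2
    interval_cases Nat.card (Sylow 3 I) <;> first | omega | (revert h1; norm_num)
  have hMidx : M.index ∣ 24 := by
    have hle := Nat.le_of_dvd (by norm_num) hn
    have h1 : M.index ∣ (normalizer ((P : Subgroup I) : Set I)).index.factorial := by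
      rw [hMdef, normalCore_eq_ker, index_ker]
      exact (card_subgroup_dvd_card _).trans (dvd_of_eq (by rw [Nat.card_perm]; rfl))
    exact h1.trans ((Nat.factorial_dvd_factorial hle).trans (dvd_of_eq rfl))
  have hMne : M ≠ ⊥ := fun h => by
    rw [h, Subgroup.index_bot] at hMidx
    have := Nat.le_of_dvd (by norm_num) hMidx
    rcases hI with h' | h' <;> omega
  haveI : MulAction.IsPretransitive M Ψ := ⟨fun c d => by
    obtain ⟨m, hm, rfl⟩ := normal_transitive hS hMne c
    obtain ⟨m', hm', rfl⟩ := normal_transitive hS hMne d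
    exact ⟨⟨m' * m⁻¹, mul_mem hm' (inv_mem hm)⟩, by
      show (m' * m⁻¹) • m • b = m' • b
      rw [mul_smul, inv_smul_smul]⟩⟩
  have h9M : 9 ∣ Nat.card M := by
    rw [← h9, ← MulAction.index_stabilizer_of_transitive M b]
    exact index_dvd_card _
  have hMN : M ≤ normalizer ((P : Subgroup I) : Set I) := normalCore_le _
  -- a 3-element of `M` lies in `P`
  have hmemP : ∀ T : Subgroup I, IsPGroup 3 T → T ≤ M → T ≤ (P : Subgroup I) := by
    intro T hT hTM
    have h1 : IsPGroup 3 ↥((P : Subgroup I) ⊔ T) :=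
      P.2.to_sup_of_normal_left' hT (hTM.trans hMN)
    exact le_sup_right.trans (le_of_eq (P.3 h1 le_sup_left))
  let S := (P : Subgroup I) ⊓ M
  have hPS : IsPGroup 3 S := P.2.to_le inf_le_left
  have hSn : S.Normal := ⟨fun x hx g => by
    have hgx : g * x * g⁻¹ ∈ M := (inferInstance : M.Normal).conj_mem x hx.2 g
    refine ⟨hmemP _ ?_ (zpowers_le.2 hgx) (mem_zpowers _), hgx⟩
    obtain ⟨k, hk⟩ := hPS ⟨x, hx⟩
    intro y
    obtain ⟨i, hi⟩ := mem_zpowers_iff.1 y.2
    refine ⟨k, Subtype.ext ?_⟩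
    have hxk : (g * x * g⁻¹) ^ (3 ^ k) = 1 := by
      rw [conj_pow, show x ^ 3 ^ k = 1 from congrArg Subtype.val hk, mul_one, mul_inv_cancel]
    rw [Subgroup.coe_pow, ← hi, ← zpow_natCast, ← zpow_mul, mul_comm, zpow_mul, zpow_natCast, hxk,
      one_zpow, Subgroup.coe_one]⟩
  obtain ⟨T⟩ : Nonempty (Sylow 3 M) := inferInstance
  have hTS : (T : Subgroup M).map M.subtype ≤ S := le_inf
    (hmemP _ (T.2.map _) (map_subtype_le _)) (map_subtype_le _)
  have h9S : 9 ∣ Nat.card S := by
    refine dvd_trans ?_ (card_dvd_of_le hTS)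
    rw [card_map_of_injective M.subtype_injective]
    exact T.pow_dvd_card_of_pow_dvd_card (n := 2) h9M
  have hSI : Nat.card S = 9 ∨ Nat.card S = 27 := by
    have h1 : Nat.card S ∣ Nat.card I := card_subgroup_dvd_card S
    obtain ⟨j, hj⟩ := IsPGroup.iff_card.1 hPS
    rw [hj] at h9S h1 ⊢
    have h2j : 2 ≤ j := (Nat.pow_dvd_pow_iff_le_right (show 1 < 3 by norm_num)).1
      (by simpa using h9S)
    have hj4 : j < 4 := by
      by_contra hj4
      have h81 : 81 ∣ Nat.card I := (pow_dvd_pow 3 (show 4 ≤ j by omega)).trans h1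
      rcases hI with h | h <;> rw [h] at h81 <;> norm_num at h81
    interval_cases j <;> norm_num
  haveI := hSn
  have hne : S ≠ ⊥ := fun h => by
    rw [h, Subgroup.card_bot] at hSI; omega
  haveI : MulAction.IsPretransitive S Ψ := ⟨fun c d => by
    obtain ⟨m, hm, rfl⟩ := normal_transitive hS hne c
    obtain ⟨m', hm', rfl⟩ := normal_transitive hS hne d
    exact ⟨⟨m' * m⁻¹, mul_mem hm' (inv_mem hm)⟩, by
      show (m' * m⁻¹) • m • b = m' • b
      rw [mul_smul, inv_smul_smul]⟩⟩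
  have hst : Nat.card (stabilizer S b) * 9 = Nat.card S := by
    have h := (stabilizer S b).card_mul_index
    rwa [MulAction.index_stabilizer_of_transitive, h9] at h
  have hinf : Nat.card ↥(S ⊓ stabilizer I b) = Nat.card (stabilizer S b) := Nat.card_congr
    { toFun := fun x => ⟨⟨x.1, x.2.1⟩, x.2.2⟩
      invFun := fun x => ⟨x.1.1, x.1.2, x.2⟩
      left_inv := fun _ => rfl
      right_inv := fun _ => rfl }
  rcases hSI with h | h
  · refine ⟨S, hSn, h, Subgroup.card_eq_one.1 ?_⟩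
    rw [hinf]; omega
  exfalso
  have h3 : Nat.card ↥(S ⊓ stabilizer I b) = 3 := by rw [hinf]; omega
  obtain ⟨x, hx⟩ := (bot_or_exists_ne_one (S ⊓ stabilizer I b)).resolve_left
    (fun e => by rw [e, Subgroup.card_bot] at h3; omega)
  have hx3 : x ^ 3 = 1 := by
    have := pow_card_eq_one' (x := (⟨x, hx.1⟩ : ↥(S ⊓ stabilizer I b)))
    rw [h3] at this
    exact congrArg Subtype.val this
  refine hx.2 (eq_one_of_cent hS h9 hx.1.2 hx3 fun r hr => ?_)
  -- the commutator lies in `S ⊓ R`, groups of coprime orders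
  have hc1 : x * r * x⁻¹ * r⁻¹ ∈ R :=
    R.mul_mem (conj_mem_Q hS hx.1.2 hr) (R.inv_mem hr)
  have hc2 : x * r * x⁻¹ * r⁻¹ ∈ S := by
    rw [show x * r * x⁻¹ * r⁻¹ = x * (r * x⁻¹ * r⁻¹) by group]
    exact S.mul_mem hx.1.1 (hSn.conj_mem _ (S.inv_mem hx.1.1) r)
  have hbot : R ⊓ S = ⊥ := by
    refine Subgroup.card_eq_one.1 (Nat.eq_one_of_dvd_coprimes (a := 8) (b := 27) (by norm_num) ?_ ?_)
    · rw [← hR]; exact card_dvd_of_le inf_le_left
    · rw [← h]; exact card_dvd_of_le inf_le_right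
  have h1 : x * r * x⁻¹ * r⁻¹ = 1 := by
    rw [← Subgroup.mem_bot, ← hbot]; exact ⟨hc1, hc2⟩
  show x * r = r * x
  exact mul_inv_eq_iff_eq_mul.1 (mul_inv_eq_one.1 h1)

/-- A regular normal subgroup of order nine is not cyclic. -/
theorem cube_eq_one (hS : Cfsg.IsRankOneSetup I Ψ b t R) (h9 : Nat.card Ψ = 9) {S : Subgroup I}
    [hSn : S.Normal] (hcard : Nat.card S = 9) (hb : S ⊓ stabilizer I b = ⊥) :
    ∀ y ∈ S, y ^ 3 = 1 := by
  classical
  haveI : Finite Ψ := finite_points hS
  by_contra hcon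
  push Not at hcon
  obtain ⟨y, hy, hy3⟩ := hcon
  have ho : orderOf y = 9 := by
    have h1 : orderOf y ∣ 3 ^ 2 := by
      have := orderOf_dvd_natCard (⟨y, hy⟩ : S)
      rwa [Subgroup.orderOf_mk, hcard] at this
    obtain ⟨j, hj, e⟩ := (Nat.dvd_prime_pow Nat.prime_three).1 h1
    interval_cases j
    · exact absurd (show y ^ 3 = 1 by rw [orderOf_eq_one_iff.1 (show orderOf y = 1 by simpa using e), one_pow]) hy3
    · exact absurd (show y ^ 3 = 1 by
        rw [← show orderOf y = 3 by simpa using e, pow_orderOf_eq_one]) hy3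
    · simpa using e
  have hS' : S = zpowers y := by
    refine (Subgroup.eq_of_le_of_card_ge (zpowers_le.2 hy) ?_).symm
    rw [hcard, Nat.card_zpowers, ho]
  -- `R` acts faithfully on the cyclic group
  let f : R → {g : I // g ∈ S ∧ orderOf g = 9} := fun r =>
    ⟨(r : I) * y * (r : I)⁻¹, hSn.conj_mem y hy r, by
      rw [← ho]; exact MulEquiv.orderOf_eq (MulAut.conj (r : I)) y⟩
  have hf : Function.Injective f := by
    intro r r' he
    have he' : (r : I) * y * (r : I)⁻¹ = (r' : I) * y * (r' : I)⁻¹ := congrArg Subtype.val he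
    set x := (r' : I)⁻¹ * r with hx
    have hxy : Commute x y := by
      show x * y = y * x
      calc x * y = (r' : I)⁻¹ * ((r : I) * y * (r : I)⁻¹) * r := by rw [hx]; group
        _ = y * x := by rw [he', hx]; group
    have hxR : x ∈ R := R.mul_mem (R.inv_mem r'.2) r.2
    have hfix : x • (y • b) = y • b := by
      rw [← mul_smul, hxy.eq, mul_smul, smul_a_of_mem_Q hS hxR]
    have hyb : y • b ≠ b := fun e => by
      have : y ∈ S ⊓ stabilizer I b := ⟨hy, e⟩
      rw [hb, Subgroup.mem_bot] at this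
      exact hy3 (by rw [this, one_pow])
    exact Subtype.ext (inv_mul_eq_one.1 (Q_free hS hxR hyb hfix)).symm
  have hR : Nat.card R = 8 := by have := card_points hS; omega
  have hle := Nat.card_le_card_of_injective f hf
  have h6 : Nat.card {g : I // g ∈ S ∧ orderOf g = 9} = 6 := by
    rw [← Nat.card_congr (Equiv.subtypeSubtypeEquivSubtypeInter (· ∈ S) (orderOf · = 9))]
    haveI : IsCyclic S := hS' ▸ (inferInstance : IsCyclic (zpowers y))
    haveI := Fintype.ofFinite S
    have h := IsCyclic.card_orderOf_eq_totient (α := S) (d := 9)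
      (by rw [← Nat.card_eq_fintype_card, hcard])
    rw [Nat.card_congr (Equiv.subtypeEquivRight
      (fun g : S => show orderOf (g : I) = 9 ↔ orderOf g = 9 by rw [Subgroup.orderOf_coe])),
      Nat.card_eq_fintype_card, Fintype.card_subtype, h]
    decide +kernel
  omega

/-- The group has no element of order nine. -/
theorem no_nine_cycle (hS : Cfsg.IsRankOneSetup I Ψ b t R) (h9 : Nat.card Ψ = 9)
    (hD : Nat.card (twoPt I b t) ∣ 3) {τ : I} (hτ : orderOf τ = 9) : False := by
  classical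
  haveI : Fact (Nat.Prime 3) := ⟨Nat.prime_three⟩
  obtain ⟨hR, hI⟩ := nine_cards hS h9 hD
  obtain ⟨S, hSn, hScard, hSb⟩ := exists_regular_normal hS h9 hD
  haveI := hSn
  have hexp := cube_eq_one hS h9 hScard hSb
  have hp3 : IsPGroup 3 (zpowers τ) := IsPGroup.iff_card.2 ⟨2, by rw [Nat.card_zpowers, hτ]; rfl⟩
  have hpS : IsPGroup 3 S := IsPGroup.iff_card.2 ⟨2, by rw [hScard]; rfl⟩
  set P := S ⊔ zpowers τ with hP
  have hPp : IsPGroup 3 P := hpS.to_sup_of_normal_left hp3
  have hPle : Nat.card P ∣ 27 := by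
    obtain ⟨j, hj⟩ := IsPGroup.iff_card.1 hPp
    have h1 : Nat.card P ∣ Nat.card I := card_subgroup_dvd_card P
    rw [hj] at h1 ⊢
    by_cases hj4 : j ≤ 3
    · exact (pow_dvd_pow 3 hj4).trans (dvd_of_eq rfl)
    have h81 : 81 ∣ Nat.card I := (pow_dvd_pow 3 (show 4 ≤ j by omega)).trans h1
    rcases hI with h | h <;> rw [h] at h81 <;> norm_num at h81
  obtain ⟨y, hy, hyb⟩ := normal_transitive hS (M := S)
    (fun e => by rw [e, Subgroup.card_bot] at hScard; omega) (τ • b)
  have hτS : τ ∉ S := fun h => by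
    have := orderOf_dvd_of_pow_eq_one (hexp τ h); rw [hτ] at this; norm_num at this
  have hτP : τ ∈ P := mem_sup_right (mem_zpowers τ)
  have h27 : Nat.card P = 27 := by
    obtain ⟨j, hj, e⟩ := (Nat.dvd_prime_pow Nat.prime_three).1 (show Nat.card P ∣ 3 ^ 3 from hPle)
    by_contra hne
    have hle : Nat.card P ≤ 9 := by
      rw [e] at hne ⊢
      interval_cases j <;> first | omega | norm_num at hne ⊢
    have : S = P := Subgroup.eq_of_le_of_card_ge le_sup_left (by omega)
    exact hτS (this ▸ hτP)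
  set d := τ⁻¹ * y with hd
  have hdb : d • b = b := by rw [hd, mul_smul, hyb, inv_smul_smul]
  have hdP : d ∈ P := P.mul_mem (P.inv_mem hτP) (mem_sup_left hy)
  have hd3 : d ^ 3 = 1 := by
    have h1 : orderOf d ∣ Nat.card (stabilizer I b) := by
      have := orderOf_dvd_natCard (⟨d, hdb⟩ : stabilizer I b); rwa [← Subgroup.orderOf_coe] at this
    have h2 : orderOf d ∣ 27 := by
      have := orderOf_dvd_natCard (⟨d, hdP⟩ : P); rwa [Subgroup.orderOf_mk, h27] at this
    have h4 : orderOf d ∣ 24 := by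
      refine h1.trans ?_
      rw [card_stabilizer hS, hR]
      exact (mul_dvd_mul_left 8 hD).trans (dvd_of_eq rfl)
    have h5 := Nat.dvd_gcd h2 h4
    norm_num at h5
    exact orderOf_dvd_iff_pow_eq_one.1 h5
  have hTn : ((zpowers τ).subgroupOf P).Normal := by
    refine normal_of_index_eq_minFac_card ?_
    rw [h27, show (27 : ℕ).minFac = 3 by norm_num]
    have h := ((zpowers τ).subgroupOf P).card_mul_index
    rw [Nat.card_congr (subgroupOfEquivOfLe (le_sup_right : zpowers τ ≤ P)).toEquiv,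
      Nat.card_zpowers, hτ, h27] at h
    omega
  have hconj : d * τ * d⁻¹ ∈ zpowers τ :=
    hTn.conj_mem ⟨τ, hτP⟩ (mem_zpowers τ) ⟨d, hdP⟩
  obtain ⟨i, hi⟩ := (mem_powers_iff_mem_zpowers.2 hconj)
  simp only at hi
  have hpow : ∀ j : ℕ, d ^ j * τ * (d ^ j)⁻¹ = τ ^ (i ^ j) := by
    intro j
    induction j with
    | zero => simp
    | succ j ih =>
      rw [pow_succ', show d * d ^ j * τ * (d * d ^ j)⁻¹ = d * (d ^ j * τ * (d ^ j)⁻¹) * d⁻¹ by group,
        ih, ← conj_pow, ← hi, ← pow_mul, ← pow_succ']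
  have hi3 : i ^ 3 % 9 = 1 := by
    have := hpow 3
    rw [hd3, one_mul, inv_one, mul_one] at this
    have h' : τ ^ 1 = τ ^ (i ^ 3) := by rw [pow_one]; exact this
    rw [pow_eq_pow_iff_modEq, hτ] at h'
    exact h'.symm
  have hy3 : (τ * d) ^ 3 = 1 := by
    rw [hd, mul_inv_cancel_left]; exact hexp y hy
  have e1 := hpow 1
  have e2 := hpow 2
  have hprod : (τ * d) ^ 3 = τ ^ (1 + i ^ 1 + i ^ 2) := by
    rw [pow_add, pow_add, ← e1, ← e2, pow_one, pow_one]
    calc (τ * d) ^ 3 = τ * (d * τ * d⁻¹) * (d ^ 2 * τ * (d ^ 2)⁻¹) * d ^ 3 := by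
          simp only [pow_succ, pow_zero, one_mul]; group
      _ = τ * (d * τ * d⁻¹) * (d ^ 2 * τ * (d ^ 2)⁻¹) := by rw [hd3, mul_one]
  have h3 : orderOf τ ∣ 1 + i ^ 1 + i ^ 2 := orderOf_dvd_of_pow_eq_one (hprod.symm.trans hy3)
  rw [hτ] at h3
  have key : ∀ r < 9, r ^ 3 % 9 = 1 → (1 + r ^ 1 + r ^ 2) % 9 ≠ 0 := by decide +kernel
  refine key (i % 9) (Nat.mod_lt _ (by norm_num)) ?_ ?_
  · rwa [← Nat.pow_mod]
  · have := Nat.mod_eq_zero_of_dvd h3
    rw [Nat.add_mod, Nat.add_mod 1, Nat.pow_mod i 1, Nat.pow_mod i 2] at this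
    rw [Nat.add_mod, Nat.add_mod 1]
    simpa using this

end Cfsg.Agent.RankOneClass.UniLines.Nine
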