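import Cfsg.Agent.RankOneClass.Induct
import Cfsg.Agent.RankOneClass.BaseCard
import Cfsg.Agent.RankOneClass.Residual
import Cfsg.Agent.RankOneClass.Lines.Nine
import Cfsg.Agent.RankOne.AbelianKernel
import Cfsg.Agent.Zassenhaus.EvenCube
import Cfsg.Agent.S1134

/-!
Stage C: in the case `|Q| = q³` the group `W` is nontrivial.
-/

set_option autoImplicit false
set_option linter.unusedSectionVars false

open Subgroup MulAction

namespace Cfsg.Agent.RankOneClass.UniLines

open Cfsg.Agent.RankOne Residual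

universe u v

variable {G : Type u} {Ω : Type v} [Group G] [Finite G] [MulAction G Ω] {a : Ω} {t : G}
  {Q : Subgroup G}

/-- `⟨Q, t⟩` has more than `K` over two points. -/
theorem no_small (hC : Ctx G Ω a t Q) (hU : IsUni G a Q)
    (hK : ∀ d ∈ twoPt G a t, d ∈ genL G t Q → d ∈ kGrp G a t) : False := by
  classical
  haveI : Finite Ω := finite_points hC.setup
  haveI := Fintype.ofFinite Ω
  haveI := Fintype.ofFinite (genL G t Q)
  haveI := genL_simple hC hK
  have hSL := genL_setup hC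
  set U := Q.subgroupOf (genL G t Q) with hUdef
  have h2U : IsPGroup 2 U := hU.two_group.of_equiv (subgroupOfEquivOfLe le_genL).symm
  have hq := hC.four_le_qq
  have hna : ∃ u ∈ U, ∃ v ∈ U, u * v ≠ v * u := by
    by_contra hab
    push Not at hab
    have hle : Q ≤ zGrp G a := fun y hy => hC.mem_zGrp_of_sq hy
      (congrArg Subtype.val (AbelianKernel.exponent_two (genL_threeFree hC hK) hSL hab h2U
        ⟨y, le_genL hy⟩ hy))
    have h1 : qq G a ^ 3 ≤ qq G a := by
      rw [← hU.card]; exact Nat.le_of_dvd Nat.card_pos (card_dvd_of_le hle)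
    have h2 : qq G a < qq G a ^ 3 := lt_self_pow₀ (by omega) (by norm_num)
    omega
  have hab : a ≠ t • a := (t_smul_ne hC.setup).symm
  have X := Zassenhaus.evenCtx_of_simple (genL_zassenhaus hC hK) hab
    (U := U) ⟨fun x hx => hSL.le hx, fun g hg x hx => hSL.conj_mem g hg x hx,
      fun c e hc he => RankOne.regular hSL hc he⟩ h2U hna
  have h := X.card_kernel_sq
  have hcardU : Nat.card U = qq G a ^ 3 := by
    rw [hUdef, Nat.card_congr (subgroupOfEquivOfLe le_genL).toEquiv, hU.card]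
  have hD : Nat.card (Zassenhaus.twoPt (G := genL G t Q) a (t • a)) = Nat.card (kGrp G a t) :=
    Nat.card_congr
      { toFun := fun x => ⟨(x.1 : G), hK _ (mem_twoPt.2 ⟨x.2.1, x.2.2⟩) x.1.2⟩
        invFun := fun k => ⟨⟨k, hC.kGrp_le_genL k.2⟩, (mem_twoPt.1 (Ctx.kGrp_le G a t k.2)).1,
          (mem_twoPt.1 (Ctx.kGrp_le G a t k.2)).2⟩
        left_inv := fun _ => rfl
        right_inv := fun _ => rfl }
  rw [hcardU, hD, hC.card_kGrp] at h
  have := Nat.pow_right_injective (show 2 ≤ qq G a by omega) h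
  omega

/-- The data left after the first reduction. -/
structure Small (hC : Ctx G Ω a t Q) (w : G) (p : ℕ) : Prop where
  prime : p.Prime
  odd : Odd p
  mem : w ∈ vGrp G a t
  order : orderOf w = p
  vGrp_eq : vGrp G a t = zpowers w
  qq_eq : qq G a = 2 ^ p
  cent_Q : Nat.card ↥(Q ⊓ centralizer ({w} : Set G)) = 8
  cent_D : ∀ d ∈ twoPt G a t, Commute d w → d ∈ zpowers w

theorem exists_small (hC : Ctx G Ω a t Q) (IH : IndHyp.{u, v} (Nat.card G)) (hU : IsUni G a Q)
    (hW : wGrp G a t = ⊥) : ∃ w p, Small hC w p := by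
  classical
  obtain ⟨s, r, hl⟩ := hC.exists_link
  obtain ⟨F, _, _, hF, ⟨X⟩⟩ := hC.exists_zField hl
  have hV : vGrp G a t ≠ ⊥ := by
    intro h
    refine no_small hC hU fun d hd _ => ?_
    obtain ⟨k, hk, c, hc, rfl⟩ := hC.exists_kv hd
    rw [h, Subgroup.mem_bot] at hc
    rwa [hc, mul_one]
  have hinj : ∀ c ∈ vGrp G a t, X.aut c = 1 → c = 1 := fun c hc h => by
    have := (X.aut_eq_one c hc).1 h
    rwa [hW, Subgroup.mem_bot] at this
  obtain ⟨f, hf2, hf⟩ := hC.exists_qq_pow
  have hVdvd : Nat.card (vGrp G a t) ∣ f := by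
    have h := hC.relIndex_dvd hf
    rwa [hW, relIndex_bot_left] at h
  set p := (Nat.card (vGrp G a t)).minFac with hp
  have hne1 : Nat.card (vGrp G a t) ≠ 1 := fun h => hV (Subgroup.card_eq_one.1 h)
  haveI : Fact p.Prime := ⟨Nat.minFac_prime hne1⟩
  have hpp : p.Prime := Fact.out
  have hpodd : Odd p := hC.odd_vGrp.of_dvd_nat (Nat.minFac_dvd _)
  obtain ⟨⟨w, hw⟩, how⟩ := exists_prime_orderOf_dvd_card' p (Nat.minFac_dvd (Nat.card (vGrp G a t)))
  rw [Subgroup.orderOf_mk] at how
  have hw1 : w ≠ 1 := fun h => by rw [h, orderOf_one] at how; exact hpp.one_lt.ne how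
  have hwp : w ^ p = 1 := how ▸ pow_orderOf_eq_one w
  have hao : orderOf (X.aut w) = p := by
    refine orderOf_eq_prime ?_ (fun h => hw1 (hinj w hw h))
    have h1 : X.autHom (⟨w, hw⟩ ^ p) = (X.aut w) ^ p := map_pow X.autHom _ p
    rw [← h1, show (⟨w, hw⟩ : vGrp G a t) ^ p = 1 from Subtype.ext hwp, map_one]
  set q₀ := Nat.card ↥(zGrp G a ⊓ centralizer ({w} : Set G)) with hq₀
  have hZp : q₀ ^ p = qq G a := by
    rw [← hao]; exact hC.card_centralizer_pow X hF hw
  have hQp : Nat.card ↥(Q ⊓ centralizer ({w} : Set G)) = q₀ ^ 3 := by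
    refine Nat.pow_left_injective hpp.ne_zero ?_
    show _ ^ p = (q₀ ^ 3) ^ p
    rw [← pow_mul, mul_comm, pow_mul, hZp, ← hU.card, ← hao]
    exact hC.free_fixed_Q X hF hU.sq_mem hU.comm_mem hw (by rw [hao]; exact hwp)
  have hq0pos : 2 ≤ q₀ := by
    have hq := hC.four_le_qq
    by_contra h
    have h01 : q₀ = 0 ∨ q₀ = 1 := by omega
    rcases h01 with h0 | h0 <;> rw [h0] at hZp
    · rw [zero_pow hpp.ne_zero] at hZp; omega
    · rw [one_pow] at hZp; omega
  have hq02 : q₀ = 2 := by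
    by_contra hne
    have h3 : 2 < q₀ := by omega
    rcases hC.cent_profile IH hw hw1 h3 with h | h | ⟨-, h⟩
    · rw [hQp] at h
      have := Nat.pow_right_injective hq0pos (h.trans (pow_one q₀).symm)
      omega
    · rw [hQp] at h
      have := Nat.pow_right_injective hq0pos h
      omega
    · rw [hW, bot_inf_eq, Subgroup.card_bot, mul_one, ← hq₀] at h
      have := Nat.le_of_dvd (Nat.gcd_pos_of_pos_left _ (by norm_num)) h
      have := Nat.gcd_le_left (n := q₀ + 1) (show 0 < 3 by norm_num)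
      omega
  rw [hq02] at hZp hQp
  have hfp : f = p := Nat.pow_right_injective le_rfl (hf.symm.trans hZp.symm)
  have hVp : Nat.card (vGrp G a t) = p :=
    ((Nat.dvd_prime hpp).1 (hfp ▸ hVdvd)).resolve_left hne1
  have hVw : vGrp G a t = zpowers w :=
    (Subgroup.eq_of_le_of_card_ge (zpowers_le.2 hw) (by rw [hVp, Nat.card_zpowers, how])).symm
  refine ⟨w, p, hpp, hpodd, hw, how, hVw, hZp.symm, by rw [hQp]; norm_num, fun d hd hdw => ?_⟩
  obtain ⟨k, hk, c, hc, rfl⟩ := hC.exists_kv hd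
  have hcw : Commute c w := by
    rw [hVw] at hc
    obtain ⟨i, rfl⟩ := mem_zpowers_iff.1 hc
    exact (Commute.refl w).zpow_left i
  have hkw : Commute k w := by
    have h := hdw.mul_left hcw.inv_left
    rwa [mul_inv_cancel_right] at h
  have hk1 : k = 1 := by
    by_contra hk1
    have hsZ : s ∈ zGrp G a := subset_closure hl.1
    have hws := (hC.link_vGrp hl hw).1
    set Y := zGrp G a ⊓ centralizer ({w} : Set G)
    have hsY : s ∈ Y := ⟨hsZ, mem_centralizer_singleton_iff.2 hws.symm.eq⟩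
    have hksY : k * s * k⁻¹ ∈ Y := ⟨hC.conj_mem_zGrp (twoPt_le (Ctx.kGrp_le G a t hk)) hsZ,
      mem_centralizer_singleton_iff.2 ((hkw.mul_left hws.symm).mul_left hkw.inv_left).eq⟩
    have hYle : Y ≤ zpowers s := by
      have hs2 : orderOf s = 2 := orderOf_eq_prime (by rw [pow_two]; exact hl.1.2.2) hl.1.2.1
      exact le_of_eq (Subgroup.eq_of_le_of_card_ge (zpowers_le.2 hsY)
        (by rw [Nat.card_zpowers, hs2, ← hq02])).symm
    obtain ⟨i, hi⟩ := mem_zpowers_iff.1 (hYle hksY)
    have hks : k * s * k⁻¹ = s := by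
      rcases Int.even_or_odd i with ⟨j, rfl⟩ | ⟨j, rfl⟩
      · rw [← two_mul, zpow_mul, zpow_two, hl.1.2.2, one_zpow] at hi
        exact absurd (conj_eq_one_iff.1 hi.symm) hl.1.2.1
      · rw [zpow_add, zpow_mul, zpow_two, hl.1.2.2, one_zpow, one_mul, zpow_one] at hi
        exact hi.symm
    exact hl.1.2.1 (hC.kGrp_fpf hk hk1 (hC.zGrp_le hsZ) (mul_inv_eq_iff_eq_mul.1 hks))
  rw [hk1, one_mul, ← hVw]
  exact hc

namespace Small

variable {hC : Ctx G Ω a t Q} {w : G} {p : ℕ} (S : Small hC w p)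
include S

theorem ne_one : w ≠ 1 := fun h => by
  have := S.order
  rw [h, orderOf_one] at this
  exact S.prime.one_lt.ne this

theorem comm_of_mem {c : G} (hc : c ∈ vGrp G a t) : Commute c w := by
  rw [S.vGrp_eq] at hc
  obtain ⟨i, rfl⟩ := mem_zpowers_iff.1 hc
  exact (Commute.refl w).zpow_left i

/-- The normaliser of `⟨w⟩` is its centraliser. -/
theorem normalizer_le :
    normalizer ((zpowers w : Subgroup G) : Set G) ≤
      centralizer ((zpowers w : Subgroup G) : Set G) := by
  haveI := hC.faithful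
  intro g hg
  have hgw : g * w * g⁻¹ ∈ vGrp G a t := by
    rw [S.vGrp_eq]
    exact (hg w).1 (mem_zpowers w)
  obtain ⟨c, hc, he⟩ := S1134.result hC.setup hC.two {w}
    (Set.singleton_subset_iff.2 S.mem) g (by rintro _ ⟨x, rfl, rfl⟩; exact hgw)
  rw [Set.image_singleton, Set.image_singleton, Set.singleton_eq_singleton_iff] at he
  have hcw : Commute c w := S.comm_of_mem hc
  rw [hcw.eq, mul_inv_cancel_right] at he
  have hgc : Commute g w := mul_inv_eq_iff_eq_mul.1 he.symm
  rw [mem_centralizer_iff]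
  intro x hx
  obtain ⟨i, rfl⟩ := mem_zpowers_iff.1 hx
  exact ((hgc.zpow_right i).eq).symm

theorem card_G (hU : IsUni G a Q) :
    Nat.card G = qq G a ^ 3 * ((qq G a - 1) * p) * (qq G a ^ 3 + 1) := by
  have h := hC.card_kGrp
  rw [RankOne.card_group hC.setup, hC.card_twoPt, hU.card, S.vGrp_eq, Nat.card_zpowers, S.order,
    show qq G a - 1 = Nat.card (kGrp G a t) by omega]

theorem ne_three_false (hU : IsUni G a Q) (hp3 : p ≠ 3) : False := by
  classical
  haveI : Fact p.Prime := ⟨S.prime⟩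
  set P := zpowers w with hP
  have hcardP : Nat.card P = p := by rw [Nat.card_zpowers, S.order]
  have hidx : ¬ p ∣ P.index := by
    have hi := P.card_mul_index
    rw [hcardP, S.card_G hU] at hi
    have hi' : P.index = qq G a ^ 3 * (qq G a - 1) * (qq G a ^ 3 + 1) :=
      mul_left_cancel₀ S.prime.ne_zero (hi.trans (by ring))
    rw [hi', S.qq_eq]
    have hf : (2 : ZMod p) ^ p = 2 := ZMod.pow_card 2
    have hge : 1 ≤ 2 ^ p := Nat.one_le_two_pow
    intro hdvd
    rw [← ZMod.natCast_eq_zero_iff, Nat.cast_mul, Nat.cast_mul, Nat.cast_add, Nat.cast_pow,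
      Nat.cast_sub hge, Nat.cast_pow, Nat.cast_one, Nat.cast_ofNat, hf] at hdvd
    norm_num at hdvd
    have h72 : ((72 : ℕ) : ZMod p) = 0 := by exact_mod_cast hdvd
    rw [ZMod.natCast_eq_zero_iff] at h72
    rcases S.prime.dvd_mul.1 (show p ∣ 2 ^ 3 * 3 ^ 2 from h72) with h | h
    · have h2 := (Nat.prime_dvd_prime_iff_eq S.prime Nat.prime_two).1 (S.prime.dvd_of_dvd_pow h)
      have := S.odd
      rw [h2] at this
      exact absurd this (by decide +kernel)
    · exact hp3 ((Nat.prime_dvd_prime_iff_eq S.prime Nat.prime_three).1 (S.prime.dvd_of_dvd_pow h))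
  let T : Sylow p G := (IsPGroup.iff_card.2 ⟨1, by rw [hcardP, pow_one]⟩).toSylow hidx
  have hT : ((T : Subgroup G)) = P := rfl
  have hN : normalizer ((T : Subgroup G) : Set G) ≤ centralizer ((T : Subgroup G) : Set G) :=
    S.normalizer_le
  have hcompl := MonoidHom.ker_transferSylow_isComplement' T hN
  set M := (MonoidHom.transferSylow T hN).ker with hM
  have hidxM : M.index = p := by
    rw [hcompl.symm.index_eq_card]
    exact hcardP
  have htwo : ∀ x : G, (∃ k, x ^ (2 ^ k) = 1) → x ∈ M := by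
    rintro x ⟨k, hk⟩
    rw [← QuotientGroup.eq_one_iff (N := M), ← orderOf_eq_one_iff]
    have h1 : orderOf (x : G ⧸ M) ∣ 2 ^ k :=
      (orderOf_map_dvd (QuotientGroup.mk' M) x).trans (orderOf_dvd_of_pow_eq_one hk)
    have h2 : orderOf (x : G ⧸ M) ∣ p :=
      (_root_.orderOf_dvd_natCard _).trans (dvd_of_eq hidxM)
    exact Nat.eq_one_of_dvd_coprimes ((Nat.coprime_two_left.2 S.odd).pow_left k) h1 h2
  have hgen : genL G t Q ≤ M := by
    refine sup_le (fun x hx => htwo x ?_) ((closure_le _).2 ?_)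
    · obtain ⟨k, hk⟩ := hU.two_group ⟨x, hx⟩
      exact ⟨k, congrArg Subtype.val hk⟩
    · intro x (hx : x = t)
      rw [hx]
      exact htwo t ⟨1, by rw [pow_one, pow_two]; exact hC.setup.mul_self⟩
  refine no_small hC hU fun d hd hdL => ?_
  obtain ⟨k, hk, c, hc, rfl⟩ := hC.exists_kv hd
  have hkM : k ∈ M := hgen (hC.kGrp_le_genL hk)
  have hcM : c ∈ M := by
    have := mul_mem (inv_mem hkM) (hgen hdL)
    rwa [inv_mul_cancel_left] at this
  have hcP : c ∈ (T : Subgroup G) := by rw [hT, hP, ← S.vGrp_eq]; exact hc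
  have hc1 : c = 1 := by
    have := hcompl.disjoint.le_bot (show c ∈ M ⊓ (T : Subgroup G) from ⟨hcM, hcP⟩)
    exact Subgroup.mem_bot.1 this
  rwa [hc1, mul_one]

/-- An element of `C(w)` fixing `a` and `t • a` is a power of `w`. -/
theorem mem_of_fix {g : G} (hg : Commute g w) (h1 : g • a = a) (h2 : g • (t • a) = t • a) :
    g ∈ zpowers w := S.cent_D g (mem_twoPt.2 ⟨h1, h2⟩) hg

/-- For `p = 3`: a normal subgroup `J` of order 27 of `C(w)`, regular modulo `⟨w⟩`. -/
theorem exists_J : ∃ J : Subgroup G, J ≤ centralizer ({w} : Set G) ∧ w ∈ J ∧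
    Nat.card J = 9 * p ∧ centralizer ({w} : Set G) ≤ normalizer (J : Set G) ∧
    (∀ y ∈ J, y • a = a → y ∈ zpowers w) ∧ Nat.card (centralizer ({w} : Set G)) = 72 * p := by
  classical
  set C := centralizer ({w} : Set G) with hCdef
  have hwC : w ∈ C := mem_centralizer_singleton_iff.2 rfl
  haveI := Ctx.img_faithful (Ω := Ω) w
  have hSI := hC.img_setup S.mem
  have hR : Nat.card (Ctx.imgQ Ω w Q) = 8 := by rw [hC.card_imgQ S.mem, S.cent_Q]
  have h9 : Nat.card (fixAct Ω w) = 9 := by rw [card_points hSI, hR]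
  have hker : ∀ g : C, toImg Ω w g = 1 ↔ (g : G) ∈ zpowers w := by
    intro g
    rw [toImg_eq_one]
    constructor
    · intro h
      exact S.mem_of_fix (mem_centralizer_singleton_iff.1 g.2) (h a (Ctx.a_mem_fix S.mem))
        (h _ (mem_twoPt.1 (Ctx.vGrp_le G a t S.mem)).2)
    · intro h c hc
      have hle : zpowers w ≤ stabilizer G c := zpowers_le.2 hc
      exact hle h
  have hD : Nat.card (twoPt (Img Ω w) (⟨a, Ctx.a_mem_fix S.mem⟩ : fixAct Ω w)
      (toImg Ω w ⟨t, Ctx.t_mem_cent S.mem⟩)) = 1 := by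
    rw [Subgroup.card_eq_one, Subgroup.eq_bot_iff_forall]
    intro h hh
    obtain ⟨g, rfl⟩ := toImg_surjective w h
    exact (hker g).2 (S.mem_of_fix (mem_centralizer_singleton_iff.1 g.2)
      (congrArg Subtype.val (mem_twoPt.1 hh).1) (congrArg Subtype.val (mem_twoPt.1 hh).2))
  have hkcard : Nat.card (imgKer Ω w) = p := by
    rw [← S.order, ← Nat.card_zpowers]
    refine Nat.card_congr
      { toFun := fun g => ⟨(g.1 : G), (hker g.1).1 ((QuotientGroup.eq_one_iff g.1).2 g.2)⟩
        invFun := fun y => ⟨⟨y.1, zpowers_le.2 hwC y.2⟩,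
          (QuotientGroup.eq_one_iff _).1 ((hker ⟨y.1, zpowers_le.2 hwC y.2⟩).2 y.2)⟩
        left_inv := fun _ => rfl
        right_inv := fun _ => rfl }
  obtain ⟨R, hRn, hRcard, hRb⟩ := Nine.exists_regular_normal hSI h9 (by rw [hD]; norm_num)
  haveI := hRn
  have hI : Nat.card (Img Ω w) = 72 := by rw [RankOne.card_group hSI, hR, hD]
  have hCcard : Nat.card C = 72 * p := by
    rw [Subgroup.card_eq_card_quotient_mul_card_subgroup (imgKer Ω w), hkcard]
    exact congrArg (· * p) hI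
  set J0 := R.comap (toImg Ω w) with hJ0
  have hJ0card : Nat.card J0 = 9 * p := by
    have hi : J0.index = 8 := by
      rw [hJ0, Subgroup.index_comap_of_surjective _ (toImg_surjective w)]
      have := R.card_mul_index
      rw [hRcard, hI] at this
      omega
    have := J0.card_mul_index
    rw [hi, hCcard] at this
    omega
  refine ⟨J0.map C.subtype, map_subtype_le _, ⟨⟨w, hwC⟩, ?_, rfl⟩, ?_, ?_, ?_, hCcard⟩
  · show toImg Ω w ⟨w, hwC⟩ ∈ R
    rw [(hker _).2 (mem_zpowers w)]; exact one_mem _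
  · rw [card_map_of_injective C.subtype_injective, hJ0card]
  · intro c hc
    haveI : J0.Normal := hRn.comap _
    intro x
    constructor
    · rintro ⟨y, hy, rfl⟩
      exact ⟨⟨c, hc⟩ * y * ⟨c, hc⟩⁻¹, Normal.conj_mem inferInstance y hy _, rfl⟩
    · rintro ⟨y, hy, e⟩
      refine ⟨⟨c, hc⟩⁻¹ * y * ⟨c, hc⟩, ?_, ?_⟩
      · simpa using Normal.conj_mem (inferInstance : J0.Normal) y hy ⟨c, hc⟩⁻¹
      · show c⁻¹ * (y : G) * c = x
        rw [show (y : G) = c * x * c⁻¹ from e]; group
  · rintro _ ⟨y, hy, rfl⟩ hya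
    refine (hker y).1 ?_
    have hm : toImg Ω w y ∈ R ⊓ stabilizer (Img Ω w) (⟨a, Ctx.a_mem_fix S.mem⟩ : fixAct Ω w) :=
      ⟨hy, Subtype.ext hya⟩
    rwa [hRb, Subgroup.mem_bot] at hm

theorem three_false (hU : IsUni G a Q) (hp : p = 3) : False := by
  classical
  subst hp
  haveI : Fact (Nat.Prime 3) := ⟨Nat.prime_three⟩
  obtain ⟨J, hJC, hwJ, hJcard, hCN, hJa, hCcard⟩ := S.exists_J
  norm_num at hJcard hCcard
  set C := centralizer ({w} : Set G) with hCdef
  set N := normalizer (J : Set G) with hNdef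
  have hG : Nat.card G = 2 ^ 9 * 3 ^ 4 * 133 := by
    rw [S.card_G hU, S.qq_eq]; norm_num
  -- the orbit of `w` under `N`
  letI : MulAction N G := MulAction.compHom G (MulAut.conj.comp N.subtype)
  have hsmul : ∀ (n : N) (y : G), n • y = (n : G) * y * (n : G)⁻¹ := fun _ _ => rfl
  set O := MulAction.orbit N w with hO
  have hstab : Nat.card (MulAction.stabilizer N w) = 216 := by
    rw [← hCcard]
    refine Nat.card_congr
      { toFun := fun n => ⟨(n.1 : G), mem_centralizer_singleton_iff.2 (by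
          have h := n.2
          rw [MulAction.mem_stabilizer_iff, hsmul] at h
          exact mul_inv_eq_iff_eq_mul.1 h)⟩
        invFun := fun c => ⟨⟨c.1, hCN c.2⟩, by
          rw [MulAction.mem_stabilizer_iff, hsmul]
          exact mul_inv_eq_iff_eq_mul.2 (mem_centralizer_singleton_iff.1 c.2)⟩
        left_inv := fun _ => rfl
        right_inv := fun _ => rfl }
  have hOJ : O ⊆ (J : Set G) := by
    rintro _ ⟨n, rfl⟩
    exact (n.2 w).1 hwJ
  have hOw : ∀ y ∈ O, y ∈ zpowers w → y = w := by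
    rintro _ ⟨n, rfl⟩ hy
    simp only at hy
    rw [hsmul] at hy
    have hn : (n : G) ∈ normalizer ((zpowers w : Subgroup G) : Set G) := by
      have he : zpowers ((n : G) * w * (n : G)⁻¹) = zpowers w :=
        Subgroup.eq_of_le_of_card_ge (zpowers_le.2 hy) (by
          rw [Nat.card_zpowers, Nat.card_zpowers]
          exact le_of_eq (MulEquiv.orderOf_eq (MulAut.conj (n : G)) w).symm)
      intro x
      constructor
      · intro hx
        obtain ⟨i, rfl⟩ := mem_zpowers_iff.1 hx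
        show (n : G) * w ^ i * (n : G)⁻¹ ∈ zpowers w
        rw [← conj_zpow]
        exact zpow_mem hy i
      · intro hx
        have hx' : (n : G) * x * (n : G)⁻¹ ∈ zpowers ((n : G) * w * (n : G)⁻¹) := he.symm ▸ hx
        obtain ⟨i, hi⟩ := mem_zpowers_iff.1 hx'
        rw [conj_zpow] at hi
        exact mem_zpowers_iff.2 ⟨i, mul_left_cancel (mul_right_cancel hi)⟩
    have h := mem_centralizer_iff.1 (S.normalizer_le hn) w (mem_zpowers w)
    show n • w = w
    rw [hsmul, ← h, mul_inv_cancel_right]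
  -- `C_Q(w)` permutes the other members freely
  set R := Q ⊓ C with hRdef
  let X : Type u := {y : G // y ∈ O ∧ y ≠ w}
  have hconj : ∀ (r : R) (y : X), (r : G) * y.1 * (r : G)⁻¹ ∈ O ∧ (r : G) * y.1 * (r : G)⁻¹ ≠ w := by
    intro r y
    refine ⟨?_, fun h => y.2.2 ?_⟩
    · have h := MulAction.mem_orbit_of_mem_orbit (⟨(r : G), hCN r.2.2⟩ : N) y.2.1
      rwa [hsmul] at h
    · have hrw : (r : G) * w = w * r := mem_centralizer_singleton_iff.1 r.2.2
      calc y.1 = (r : G)⁻¹ * ((r : G) * y.1 * (r : G)⁻¹) * r := by group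
        _ = w := by rw [h, mul_assoc, ← hrw, inv_mul_cancel_left]
  letI : MulAction R X :=
    { smul := fun r y => ⟨(r : G) * y.1 * (r : G)⁻¹, hconj r y⟩
      one_smul := fun y => Subtype.ext (show ((1 : R) : G) * y.1 * ((1 : R) : G)⁻¹ = y.1 by simp)
      mul_smul := fun r r' y => Subtype.ext
        (show ((r * r' : R) : G) * y.1 * ((r * r' : R) : G)⁻¹ =
          (r : G) * ((r' : G) * y.1 * (r' : G)⁻¹) * (r : G)⁻¹ by simp [mul_assoc]) }
  have hfree : ∀ y : X, MulAction.stabilizer R y = ⊥ := by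
    intro y
    rw [Subgroup.eq_bot_iff_forall]
    intro r hr
    have hr' : (r : G) * y.1 * (r : G)⁻¹ = y.1 := congrArg Subtype.val hr
    have hne : y.1 • a ≠ a := fun h => y.2.2 (hOw _ y.2.1 (hJa _ (hOJ y.2.1) h))
    refine Subtype.ext (Q_free hC.setup r.2.1 hne ?_)
    rw [← mul_smul, mul_inv_eq_iff_eq_mul.1 hr', mul_smul, smul_a_of_mem_Q hC.setup r.2.1]
  have hX8 : 8 ∣ Nat.card X := by
    rw [Nat.card_congr (MulAction.selfEquivOrbitsQuotientProd hfree), Nat.card_prod,
      show Nat.card R = 8 from S.cent_Q]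
    exact dvd_mul_left 8 _
  have hOcard : O.ncard = Nat.card X + 1 := by
    have hw : w ∈ O := MulAction.mem_orbit_self w
    rw [← Set.ncard_sdiff_singleton_add_one hw]
    congr 1
  have hO27 : O.ncard ≤ 27 := by
    refine (Set.ncard_le_ncard hOJ).trans (le_of_eq ?_)
    rw [← Nat.card_coe_set_eq]; exact hJcard
  have hNcard : Nat.card N = O.ncard * 216 := by
    rw [hO, ← MulAction.index_stabilizer, mul_comm, ← hstab, Subgroup.card_mul_index]
  have hNdvd : O.ncard * 216 ∣ 216 * (2 ^ 6 * 3 * 133) := by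
    rw [← hNcard]
    exact (card_subgroup_dvd_card N).trans (dvd_of_eq (hG.trans (by norm_num)))
  have h81 : 81 ∣ Nat.card N :=
    Sylow.prime_pow_dvd_card_normalizer (p := 3) (n := 3) (by rw [hG]; norm_num) hJcard
  rw [mul_comm O.ncard, Nat.mul_dvd_mul_iff_left (by norm_num)] at hNdvd
  rw [hNcard] at h81
  obtain ⟨k, hk⟩ := hX8
  rw [hk] at hOcard
  have hk3 : k ≤ 3 := by omega
  rw [hOcard] at hNdvd h81
  interval_cases k <;> first | omega | (revert hNdvd h81; norm_num)

end Small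

/-- In the case `|Q| = q³` the group `W` is nontrivial. -/
theorem wGrp_ne_bot (hC : Ctx G Ω a t Q) (IH : IndHyp.{u, v} (Nat.card G)) (hU : IsUni G a Q) :
    wGrp G a t ≠ ⊥ := by
  intro hW
  obtain ⟨w, p, S⟩ := exists_small hC IH hU hW
  by_cases hp : p = 3
  · exact S.three_false hU hp
  · exact S.ne_three_false hU hp

end Cfsg.Agent.RankOneClass.UniLines
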