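import Cfsg.Agent.RankOneClass.Base
import Cfsg.Agent.RankOne.Centralized

/-!
A small case used for the lines of the unital: a rank-one group of degree 513 has no semiregular
cyclic subgroup of order 513.
-/

set_option autoImplicit false
set_option linter.unusedSectionVars false

open Subgroup MulAction

namespace Cfsg.Agent.RankOneClass.UniLines

open Cfsg.Agent.RankOne

universe u v

variable {G : Type u} {Ω : Type v} [Group G] [Finite G] [MulAction G Ω] {a : Ω} {t : G}
  {Q : Subgroup G}

/-- A rank-one group with `|Q| = 512` and two-point stabiliser of order `7 h`, `h ∣ 9`, has no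
semiregular cyclic subgroup of order 513. -/
theorem big (hC : Ctx G Ω a t Q) (hQ : Nat.card Q = 512)
    (hD : ∃ h : ℕ, h ∣ 9 ∧ Nat.card (twoPt G a t) = 7 * h) (T : Subgroup G) (hcyc : IsCyclic T)
    (hT : Nat.card T = 513) (hfree : ∀ x ∈ T, ∀ p : Ω, x • p = p → x = 1) : False := by
  classical
  have hS := hC.setup
  haveI := hC.faithful
  haveI := finite_points hS
  haveI := isPretransitive hS
  haveI : Fact (Nat.Prime 19) := ⟨by norm_num⟩
  obtain ⟨g', hg'⟩ := exists_prime_orderOf_dvd_card' (G := T) 19 (by rw [hT]; norm_num)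
  set g : G := (g' : G) with hgdef
  have hgT : g ∈ T := g'.2
  have ho : orderOf g = 19 := by rw [hgdef, orderOf_coe, hg']
  set C := centralizer ({g} : Set G) with hCdef
  have hTC : T ≤ C := fun x hx => mem_centralizer_singleton_iff.2
    (congrArg Subtype.val (IsCyclic.isMulCommutative (α := T) |>.is_comm.comm ⟨x, hx⟩ g'))
  have hsemi : ∀ c ∈ C, ∀ p : Ω, c • p = p → c = 1 := by
    intro c hc p hp
    have hcg : Commute c g := mem_centralizer_singleton_iff.1 hc
    have hgp : g • p ≠ p := fun e => by
      have h1 := hfree g hgT p e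
      rw [h1, orderOf_one] at ho
      omega
    obtain ⟨h, hha, hhb⟩ := exists_smul_pair hS (t_smul_ne hS).symm hgp.symm
    set c' := h⁻¹ * c * h with hc'
    set g₁ := h⁻¹ * g * h with hg₁
    have hfix : ∀ x : Ω, c • x = x → c' • (h⁻¹ • x) = h⁻¹ • x := fun x hx => by
      rw [hc', mul_smul, mul_smul, smul_inv_smul, hx]
    have hca : c' • a = a := by
      have := hfix p hp
      rwa [← hha, inv_smul_smul] at this
    have hcb : c' • (t • a) = t • a := by
      have := hfix (g • p) (by rw [← mul_smul, hcg.eq, mul_smul, hp])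
      rwa [← hhb, inv_smul_smul] at this
    have hcg₁ : Commute c' g₁ := by
      show h⁻¹ * c * h * (h⁻¹ * g * h) = h⁻¹ * g * h * (h⁻¹ * c * h)
      calc h⁻¹ * c * h * (h⁻¹ * g * h) = h⁻¹ * (c * g) * h := by group
        _ = h⁻¹ * (g * c) * h := by rw [hcg.eq]
        _ = _ := by group
    have ho₁ : orderOf g₁ = 19 := by
      rw [hg₁, show h⁻¹ * g * h = MulAut.conj h⁻¹ g by simp]
      exact (orderOf_injective (MulAut.conj h⁻¹).toMonoidHom (MulEquiv.injective _) g).trans ho
    -- the fixed points of `c'`
    let S : SubMulAction (centralizer ({c'} : Set G)) Ω :=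
      { carrier := fixedBy Ω c'
        smul_mem' := fun x y hy => by
          show c' • ((x : G) • y) = (x : G) • y
          rw [← mul_smul, ← mem_centralizer_singleton_iff.1 x.2, mul_smul,
            show c' • y = y from hy] }
    have hcardS : Nat.card S = Nat.card ↥(Q ⊓ centralizer {c'}) + 1 := by
      let φ : Option ↥(Q ⊓ centralizer ({c'} : Set G)) → S := fun o =>
        o.elim ⟨a, hca⟩ fun q => ⟨(q : G) • (t • a), by
          show c' • ((q : G) • (t • a)) = (q : G) • (t • a)
          rw [← mul_smul, ← mem_centralizer_singleton_iff.1 q.2.2, mul_smul, hcb]⟩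
      have hbij : Function.Bijective φ := by
        refine ⟨?_, fun x => ?_⟩
        · rintro (_ | x) (_ | y) e
          · rfl
          · exact absurd (congrArg Subtype.val e).symm (Q_smul_ne hS y.2.1 (t_smul_ne hS))
          · exact absurd (congrArg Subtype.val e) (Q_smul_ne hS x.2.1 (t_smul_ne hS))
          · exact congrArg some (Subtype.ext (Q_smul_inj hS x.2.1 y.2.1 (t_smul_ne hS)
              (congrArg Subtype.val e)))
        · by_cases hx : (x : Ω) = a
          · exact ⟨none, Subtype.ext hx.symm⟩
          · obtain ⟨q, hq, e⟩ := cent_Q_trans hS (X := ({c'} : Set G))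
              (fun y hy => by rw [Set.mem_singleton_iff.1 hy]; exact mem_twoPt.2 ⟨hca, hcb⟩)
              (fun y hy => by rw [Set.mem_singleton_iff.1 hy]; exact x.2) hx
            exact ⟨some ⟨q, hq.2, hq.1⟩, Subtype.ext e⟩
      rw [← Nat.card_eq_of_bijective φ hbij, Finite.card_option]
    have h19 : 19 ∣ Nat.card S := by
      let P : Subgroup (centralizer ({c'} : Set G)) :=
        zpowers ⟨g₁, mem_centralizer_singleton_iff.2 hcg₁.symm.eq⟩
      have hP : IsPGroup 19 P := IsPGroup.of_card (n := 1) (by
        rw [Nat.card_zpowers, pow_one, ← ho₁]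
        exact Subgroup.orderOf_mk _ _)
      have hno : Nat.card (fixedPoints P S) = 0 := by
        refine Nat.card_eq_zero.2 (Or.inl ⟨fun x => ?_⟩)
        have h1 : g₁ • ((x : S) : Ω) = ((x : S) : Ω) :=
          congrArg Subtype.val (x.2 ⟨_, mem_zpowers _⟩)
        rw [hg₁, mul_smul, mul_smul, inv_smul_eq_iff] at h1
        have h2 := hfree g hgT _ h1
        rw [h2, orderOf_one] at ho
        omega
      exact Nat.modEq_zero_iff_dvd.1 (hno ▸ hP.card_modEq_card_fixedPoints S)
    rw [hcardS] at h19
    have hdvd : Nat.card ↥(Q ⊓ centralizer {c'}) ∣ 2 ^ 9 := by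
      rw [show 2 ^ 9 = Nat.card Q by rw [hQ]; norm_num]
      exact card_dvd_of_le inf_le_left
    obtain ⟨j, hj, hcard⟩ := (Nat.dvd_prime_pow Nat.prime_two).1 hdvd
    rw [hcard] at h19
    have hj9 : j = 9 := by
      interval_cases j <;> norm_num at h19 <;> omega
    subst hj9
    have hall : Q ⊓ centralizer ({c'} : Set G) = Q :=
      eq_of_le_of_card_ge inf_le_left (by rw [hcard, hQ]; norm_num)
    have hc1 : c' = 1 := by
      refine eq_of_smul_eq_smul fun x : Ω => ?_
      rw [one_smul]
      by_cases hx : x = a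
      · rw [hx, hca]
      · obtain ⟨q, hq, rfl⟩ := exists_Q_smul hS hx
        rw [← hall] at hq
        rw [← mul_smul, ← mem_centralizer_singleton_iff.1 hq.2, mul_smul, hcb]
    rw [hc', mul_assoc, inv_mul_eq_one] at hc1
    exact mul_eq_right.1 hc1.symm
  have hΩ : Nat.card Ω = 513 := by rw [card_points hS, hQ]
  have hCT : C = T := by
    refine (eq_of_le_of_card_ge hTC ?_).symm
    rw [hT, ← hΩ]
    exact Nat.card_le_card_of_injective (fun c : C => (c : G) • a) fun x y e =>
      Subtype.ext (inv_mul_eq_one.1 (hsemi _ (mul_mem (inv_mem y.2) x.2) a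
        (by rw [mul_smul]; exact inv_smul_eq_iff.2 e))).symm
  obtain ⟨h, hh9, hDc⟩ := hD
  have hG : Nat.card G = 512 * (7 * h) * 513 := by rw [card_group hS, hQ, hDc]
  have hh : h = 1 ∨ h = 3 ∨ h = 9 := by
    have := Nat.le_of_dvd (by norm_num) hh9
    interval_cases h <;> simp_all
  have hPcard : Nat.card (zpowers g) = 19 := by rw [Nat.card_zpowers, ho]
  obtain ⟨S, hPS⟩ := (IsPGroup.of_card (n := 1) (by rw [hPcard, pow_one]) :
    IsPGroup 19 (zpowers g)).exists_le_sylow
  have hSeq : (S : Subgroup G) = zpowers g := by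
    refine (eq_of_le_of_card_ge hPS ?_).symm
    obtain ⟨k, hk⟩ := S.2.exists_card_eq
    have hd : Nat.card (S : Subgroup G) ∣ Nat.card G := card_subgroup_dvd_card _
    rw [hk, hG] at hd
    rw [hPcard, hk]
    by_contra hlt
    push Not at hlt
    have hk2 : 2 ≤ k := by
      rcases Nat.lt_or_ge k 2 with h' | h'
      · interval_cases k <;> norm_num at hlt
      · exact h'
    have h361 : 361 ∣ 512 * (7 * h) * 513 :=
      dvd_trans (show 361 ∣ 19 ^ k from dvd_trans (by norm_num) (pow_dvd_pow 19 hk2)) hd
    rcases hh with rfl | rfl | rfl <;> norm_num at h361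
  set N := normalizer (zpowers g : Set G)
  have hker := (zpowers g).normalizerMonoidHom.ker.card_mul_index
  rw [index_ker] at hker
  have hrange : Nat.card (zpowers g).normalizerMonoidHom.range ∣ 18 := by
    refine (card_subgroup_dvd_card _).trans ?_
    rw [IsCyclic.card_mulAut, hPcard, Nat.totient_prime (by norm_num)]
  have hkc : Nat.card (zpowers g).normalizerMonoidHom.ker = 513 := by
    rw [normalizerMonoidHom_ker,
      Nat.card_congr (subgroupOfEquivOfLe (centralizer_le_normalizer _)).toEquiv,
      zpowers_eq_closure, centralizer_closure]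
    show Nat.card C = 513
    rw [hCT, hT]
  have hidx : N.index % 19 = 1 := by
    have h1 := card_sylow_modEq_one 19 G
    rw [S.card_eq_index_normalizer] at h1
    have h1' : (normalizer ((S : Subgroup G) : Set G)).index % 19 = 1 := h1
    rw [hSeq] at h1'
    exact h1'
  have hN : Nat.card N * N.index = 512 * (7 * h) * 513 := by rw [N.card_mul_index, hG]
  rw [hkc] at hker
  obtain ⟨e, he⟩ : ∃ e, e = Nat.card (zpowers g).normalizerMonoidHom.range := ⟨_, rfl⟩
  rw [← he] at hker hrange
  rw [← hker] at hN
  have hN' : e * N.index = 512 * (7 * h) := by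
    apply Nat.eq_of_mul_eq_mul_left (show 0 < 513 by norm_num)
    rw [← mul_assoc, hN, mul_comm]
  have he18 : e ≤ 18 := Nat.le_of_dvd (by norm_num) hrange
  have hmod : e % 19 = (512 * (7 * h)) % 19 := by
    rw [← hN', Nat.mul_mod, hidx, mul_one, Nat.mod_mod]
  rcases hh with rfl | rfl | rfl <;> norm_num at hmod <;>
    (interval_cases e <;> norm_num at hmod <;> norm_num at hrange)

/-- The case `q = 8` of the degree 513 configuration. -/
theorem no_big (hC : Ctx G Ω a t Q) (hq : qq G a = 8) (_hQ2 : IsPGroup 2 Q)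
    (hQ : Nat.card Q = 512) (hV : Nat.card (vGrp G a t) ∣ 9) (T : Subgroup G) (hTc : IsCyclic T)
    (hT : Nat.card T = 513) (hfree : ∀ c ∈ T, ∀ x : Ω, c • x = x → c = 1) : False := by
  refine big hC hQ ⟨_, hV, ?_⟩ T hTc hT hfree
  have := hC.card_kGrp
  rw [hC.card_twoPt, show Nat.card (kGrp G a t) = 7 by omega]

end Cfsg.Agent.RankOneClass.UniLines
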