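import Cfsg.Agent.RankOneClass.Lines.Line
import Cfsg.Agent.RankOneClass.Lines.Nine

/-!
Stage C: the two small configurations left over by `line_or_small` do not occur.
-/

set_option autoImplicit false

open Subgroup MulAction

namespace Cfsg.Agent.RankOneClass

open Cfsg.Agent.RankOne

universe u v

variable {G : Type u} {Ω : Type v} [Group G] [Finite G] [MulAction G Ω] {a : Ω} {t : G}
  {Q : Subgroup G}

namespace UniLines

/-- The image of a subgroup containing `v` has at most a third of its order. -/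
theorem card_map_img_dvd {v : G} (hv3 : orderOf v = 3) {H : Subgroup (centralizer ({v} : Set G))}
    (hvH : ∀ hc : v ∈ centralizer ({v} : Set G),
      (⟨v, hc⟩ : centralizer ({v} : Set G)) ∈ H) :
    Nat.card (H.map (toImg Ω v)) * 3 ∣ Nat.card H := by
  set v' : centralizer ({v} : Set G) := ⟨v, mem_centralizer_singleton_iff.2 rfl⟩
  have hk : Nat.card (zpowers v') ∣ Nat.card ↥((toImg Ω v).ker ⊓ H) := by
    refine card_dvd_of_le (zpowers_le.2 ⟨?_, hvH _⟩)
    exact toImg_eq_one.2 fun c hc => hc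
  rw [Nat.card_zpowers, ← Subgroup.orderOf_coe, hv3] at hk
  have e := Subgroup.card_mul_index ((toImg Ω v).comp H.subtype).ker
  rw [Subgroup.index_ker] at e
  have er : ((toImg Ω v).comp H.subtype).range = H.map (toImg Ω v) := by
    rw [MonoidHom.range_comp, range_subtype]
  have ek : Nat.card ((toImg Ω v).comp H.subtype).ker = Nat.card ↥((toImg Ω v).ker ⊓ H) :=
    Nat.card_congr
      { toFun := fun x => ⟨x.1.1, x.2, x.1.2⟩
        invFun := fun x => ⟨⟨x.1, x.2.2⟩, x.2.1⟩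
        left_inv := fun _ => rfl
        right_inv := fun _ => rfl }
  rw [er, ek] at e
  rw [← e, mul_comm (Nat.card _) (Nat.card (H.map _))]
  exact mul_dvd_mul_left _ hk

/-- An element of `K` commuting with `v ∈ V` is trivial if `|C_Z(v)| = 2`. -/
theorem kGrp_cent_eq_one (hC : Ctx G Ω a t Q) {v k : G} (hv : v ∈ vGrp G a t)
    (h2 : Nat.card ↥(zGrp G a ⊓ centralizer ({v} : Set G)) = 2) (hk : k ∈ kGrp G a t)
    (hkv : Commute k v) : k = 1 := by
  obtain ⟨s, r, hl⟩ := hC.exists_link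
  have hsv : Commute s v := (hC.link_vGrp hl hv).1.symm
  have hsZ : s ∈ zGrp G a := subset_closure hl.1
  have h1 : s ∈ zGrp G a ⊓ centralizer ({v} : Set G) :=
    ⟨hsZ, mem_centralizer_singleton_iff.2 hsv.eq⟩
  have h3 : k * s * k⁻¹ ∈ zGrp G a ⊓ centralizer ({v} : Set G) :=
    ⟨hC.conj_mem_zGrp (twoPt_le (Ctx.kGrp_le G a t hk)) hsZ, mem_centralizer_singleton_iff.2
      (((hkv.mul_left hsv).mul_left hkv.inv_left).eq)⟩
  have hs1 : (⟨s, h1⟩ : ↥(zGrp G a ⊓ centralizer ({v} : Set G))) ≠ 1 := fun e =>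
    hl.1.2.1 (congrArg Subtype.val e)
  have hu := (Nat.card_eq_two_iff' (1 : ↥(zGrp G a ⊓ centralizer ({v} : Set G)))).1 h2
  have h4 : k * s * k⁻¹ = s := congrArg Subtype.val
    (hu.unique (y₁ := ⟨_, h3⟩) (y₂ := ⟨s, h1⟩)
      (fun e => hl.1.2.1 (conj_eq_one_iff.1 (congrArg Subtype.val e))) hs1)
  refine hC.kGrp_conj_inj hk (one_mem _) hsZ hl.1.2.1 ?_
  rw [h4]; group

theorem no_smallData (hC : Ctx G Ω a t Q) (hU : IsUni G a Q)
    (hbig : ∀ (H : Type u) [Group H] [Finite H] (Ψ : Type v) [MulAction H Ψ] (b : Ψ) (t' : H)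
      (R : Subgroup H), Ctx H Ψ b t' R → qq H b = 8 → IsPGroup 2 R → Nat.card R = 512 →
      Nat.card (vGrp H b t') ∣ 9 → ∀ T : Subgroup H, IsCyclic T → Nat.card T = 513 →
      (∀ c ∈ T, ∀ x : Ψ, c • x = x → c = 1) → False)
    {v : G} (hD : SmallData G a t Q v) : False := by
  classical
  obtain ⟨hv, -, hv3, hW, hCQ, hcases, T, hTc, hT, hfree⟩ := hD
  have hv1 : v ≠ 1 := fun e => by rw [e, orderOf_one] at hv3; omega
  haveI := finite_points hC.setup
  have hVcard : ∀ f, qq G a = 2 ^ f → Nat.card (vGrp G a t) ∣ 3 * f := by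
    intro f hf
    have h1 := card_mul_index ((wGrp G a t).subgroupOf (vGrp G a t))
    rw [Nat.card_congr (subgroupOfEquivOfLe (Ctx.wGrp_le G a t)).toEquiv, hW] at h1
    rw [← h1]
    exact mul_dvd_mul_left 3 (hC.relIndex_dvd hf)
  set V' := (vGrp G a t).subgroupOf (centralizer ({v} : Set G))
  have hV'card : Nat.card V' ∣ Nat.card (vGrp G a t) := by
    rw [← card_map_of_injective (centralizer ({v} : Set G)).subtype_injective]
    exact card_dvd_of_le (map_le_iff_le_comap.2 le_rfl)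
  have hmap : Nat.card (V'.map (toImg Ω v)) * 3 ∣ Nat.card (vGrp G a t) :=
    (card_map_img_dvd hv3 (fun _ => hv)).trans hV'card
  have hpts : Nat.card (fixAct Ω v) = qq G a + 1 := by
    rw [card_points (hC.img_setup hv), hC.card_imgQ hv, hCQ]
  rcases hcases with ⟨h8, h2⟩ | ⟨h512, h8⟩
  · have hsub : twoPt (Img Ω v) (⟨a, Ctx.a_mem_fix hv⟩ : fixAct Ω v)
        (toImg Ω v ⟨t, Ctx.t_mem_cent hv⟩) ≤ V'.map (toImg Ω v) := by
      intro e he
      obtain ⟨g, rfl⟩ := toImg_surjective v e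
      have hgD : (g : G) ∈ twoPt G a t :=
        mem_twoPt.2 ⟨congrArg Subtype.val he.1, congrArg Subtype.val he.2⟩
      obtain ⟨k, hk, c, hc, e⟩ := hC.exists_kv hgD
      have hk' : k * v * k⁻¹ = v := by
        have hgv : (g : G) * v * (g : G)⁻¹ = v :=
          mul_inv_eq_iff_eq_mul.2 (mem_centralizer_singleton_iff.1 g.2)
        have hcv : c * v * c⁻¹ ∈ vGrp G a t := Ctx.conj_mem_vGrp hc hv
        have h1 : k * (c * v * c⁻¹) * k⁻¹ = v := by
          refine Eq.trans ?_ hgv; rw [e]; group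
        have h2 : (c * v * c⁻¹)⁻¹ * k * (c * v * c⁻¹) ∈ kGrp G a t := by
          simpa using hC.conj_mem_kGrp (inv_mem (Ctx.vGrp_le G a t hcv)) hk
        have h3 : v⁻¹ * (c * v * c⁻¹) ∈ kGrp G a t := by
          have : v⁻¹ * (c * v * c⁻¹) = k * ((c * v * c⁻¹)⁻¹ * k * (c * v * c⁻¹))⁻¹ := by
            calc v⁻¹ * (c * v * c⁻¹) = (k * (c * v * c⁻¹) * k⁻¹)⁻¹ * (c * v * c⁻¹) := by rw [h1]
              _ = _ := by group
          rw [this]; exact mul_mem hk (inv_mem h2)
        have h4 := hC.kv_disjoint h3 (mul_mem (inv_mem hv) hcv)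
        have h5 : c * v * c⁻¹ = v := (inv_mul_eq_one.1 h4).symm
        rwa [h5] at h1
      have hk1 : k = 1 := kGrp_cent_eq_one hC hv h2 hk (mul_inv_eq_iff_eq_mul.1 hk')
      rw [hk1, one_mul] at e
      exact ⟨g, show (g : G) ∈ vGrp G a t from e ▸ hc, rfl⟩
    have h3 : Nat.card (twoPt (Img Ω v) (⟨a, Ctx.a_mem_fix hv⟩ : fixAct Ω v)
        (toImg Ω v ⟨t, Ctx.t_mem_cent hv⟩)) ∣ 3 := by
      have h9 : Nat.card (vGrp G a t) ∣ 3 * 3 := hVcard 3 (by rw [h8]; norm_num)
      exact Nat.dvd_of_mul_dvd_mul_right (by norm_num : 0 < 3)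
        (((mul_dvd_mul_right (card_dvd_of_le hsub) 3).trans hmap).trans h9)
    haveI := Ctx.img_faithful (Ω := Ω) v
    obtain ⟨g, hg⟩ := hTc.exists_ofOrder_eq_natCard
    refine Nine.no_nine_cycle (hC.img_setup hv) (by rw [hpts, h8]) h3 (τ := (g : Img Ω v)) ?_
    rw [Subgroup.orderOf_coe, hg, hT, h8]
  · have h4 : 2 < Nat.card ↥(zGrp G a ⊓ centralizer ({v} : Set G)) := by omega
    have hCi := hC.img_ctx hv h4
    refine hbig (Img Ω v) (fixAct Ω v) _ _ _ hCi (by rw [hC.qq_img hv hCi, h8])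
      ?_ (by rw [hC.card_imgQ hv, hCQ, h512]) ?_ T hTc (by rw [hT, h512]) hfree
    · refine IsPGroup.map ?_ _
      exact hU.two_group.of_injective
        (MonoidHom.mk' (fun x : Q.subgroupOf (centralizer ({v} : Set G)) => (⟨(x.1 : G), x.2⟩ : Q))
          fun _ _ => rfl)
        fun x y e => Subtype.ext (Subtype.ext (congrArg Subtype.val e :))
    · have hsub : vGrp (Img Ω v) (⟨a, Ctx.a_mem_fix hv⟩ : fixAct Ω v)
          (toImg Ω v ⟨t, Ctx.t_mem_cent hv⟩) ≤ V'.map (toImg Ω v) := by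
        intro e he
        obtain ⟨g, rfl⟩ := toImg_surjective v e
        obtain ⟨heD, het⟩ := Ctx.mem_vGrp.1 he
        have hgD : (g : G) ∈ twoPt G a t :=
          mem_twoPt.2 ⟨congrArg Subtype.val heD.1, congrArg Subtype.val heD.2⟩
        obtain ⟨k, hk, c, hc, e⟩ := hC.exists_kv hgD
        let t' : centralizer ({v} : Set G) := ⟨t, Ctx.t_mem_cent hv⟩
        have hker : toImg Ω v (t' * g * t'⁻¹ * g⁻¹) = 1 := by
          rw [map_mul, map_mul, map_mul, map_inv, map_inv, het.eq, mul_inv_cancel_right,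
            mul_inv_cancel]
        have hfix := toImg_eq_one.1 hker
        have hval : ((t' * g * t'⁻¹ * g⁻¹ : centralizer ({v} : Set G)) : G) = k⁻¹ * k⁻¹ := by
          show t * g * t⁻¹ * (g : G)⁻¹ = _
          rw [e, t_inv hC.setup]
          have htc : Commute t c := (Ctx.mem_vGrp.1 hc).2
          calc t * (k * c) * t * (k * c)⁻¹ = (t * k * t) * (t * c * t) * c⁻¹ * k⁻¹ := by
                simp only [mul_inv_rev, mul_assoc]
                simp only [← mul_assoc t t, hC.setup.mul_self, one_mul]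
            _ = k⁻¹ * k⁻¹ := by
                rw [hC.t_conj_kGrp hk, htc.eq, mul_assoc c t t, hC.setup.mul_self]; group
        obtain ⟨d, hda, hdb, hd⟩ := hC.exists_third_fixed hv
        have hk2 : k⁻¹ * k⁻¹ = 1 := by
          have h1 := hfix d (hd v rfl)
          rw [hval] at h1
          exact Residual.kGrp_free hC (mul_mem (inv_mem hk) (inv_mem hk)) hda hdb h1
        have hk1 : k = 1 := inv_eq_one.1
          (eq_one_of_sq_eq_one hC.setup.odd_card (inv_mem (Ctx.kGrp_le G a t hk)) hk2)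
        rw [hk1, one_mul] at e
        exact ⟨g, show (g : G) ∈ vGrp G a t from e ▸ hc, rfl⟩
      have h27 : Nat.card (vGrp G a t) ∣ 9 * 3 := hVcard 9 (by rw [h512]; norm_num)
      exact Nat.dvd_of_mul_dvd_mul_right (by norm_num : 0 < 3)
        (((mul_dvd_mul_right (card_dvd_of_le hsub) 3).trans hmap).trans h27)

end UniLines

end Cfsg.Agent.RankOneClass
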