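import Cfsg.Agent.RankOneClass.BaseCard
import Cfsg.Agent.RankOneClass.Residual

/-!
Stage C, first step: a nontrivial element of `W` centralises exactly `Z` in `Q`, and `r ∈ Z`.
-/

set_option autoImplicit false

open Subgroup MulAction

namespace Cfsg.Agent.RankOneClass

open Cfsg.Agent.RankOne

universe u v

variable {G : Type u} {Ω : Type v} [Group G] [Finite G] [MulAction G Ω] {a : Ω} {t : G}
  {Q : Subgroup G}

namespace UniLines

/-- In `Q / Z`, a unipotent action of an element of odd order is trivial. -/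
theorem unipotent_mem (hC : Ctx G Ω a t Q) (hU : IsUni G a Q) {d x y : G} (hd : d ∈ twoPt G a t)
    (hx : x ∈ Q) (hy : y ∈ Q) (hxy : (x * y)⁻¹ * (d * x * d⁻¹) ∈ zGrp G a)
    (hyy : y⁻¹ * (d * y * d⁻¹) ∈ zGrp G a) : y ∈ zGrp G a := by
  set Z := zGrp G a
  obtain ⟨l, hl⟩ := odd_orderOf_of_mem hC.setup.odd_card hd
  have hm : d ^ orderOf d = 1 := pow_orderOf_eq_one d
  have hda : ∀ j : ℕ, d ^ j ∈ stabilizer G a := fun j => twoPt_le (pow_mem hd j)
  have hj : ∀ j : ℕ, (x * y ^ j)⁻¹ * (d ^ j * x * (d ^ j)⁻¹) ∈ Z ∧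
      y⁻¹ * (d ^ j * y * (d ^ j)⁻¹) ∈ Z := by
    intro j
    induction j with
    | zero => simp
    | succ j ih =>
      obtain ⟨h1, h2⟩ := ih
      have c1 := hC.conj_mem_zGrp (hda j) hxy
      have c2 := hC.conj_mem_zGrp (hda j) hyy
      refine ⟨?_, ?_⟩
      · -- `d^(j+1) x = d^j (x y z)`
        have e : (x * y ^ (j + 1))⁻¹ * (d ^ (j + 1) * x * (d ^ (j + 1))⁻¹) =
            (y⁻¹ * ((x * y ^ j)⁻¹ * (d ^ j * x * (d ^ j)⁻¹)) * y) *
              (y⁻¹ * (d ^ j * y * (d ^ j)⁻¹)) *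
              (d ^ j * ((x * y)⁻¹ * (d * x * d⁻¹)) * (d ^ j)⁻¹) := by
          rw [pow_succ d j, pow_succ y j]; group
        rw [e]
        refine mul_mem (mul_mem ?_ h2) c1
        have := hC.conj_mem_zGrp (inv_mem (hC.setup.le hy)) h1
        simpa using this
      · have e : y⁻¹ * (d ^ (j + 1) * y * (d ^ (j + 1))⁻¹) =
            (y⁻¹ * (d ^ j * y * (d ^ j)⁻¹)) * (d ^ j * (y⁻¹ * (d * y * d⁻¹)) * (d ^ j)⁻¹) := by
          rw [pow_succ d j]; group
        rw [e]; exact mul_mem h2 c2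
  have h1 := (hj (orderOf d)).1
  rw [hm, one_mul, inv_one, mul_one, hl] at h1
  have h2 : y ^ (2 * l + 1) ∈ Z := by
    have := inv_mem h1
    simpa [mul_inv_rev, mul_assoc] using this
  have h3 : y ^ (2 * l) ∈ Z := by
    rw [pow_mul, pow_two]; exact pow_mem (hU.sq_mem y hy) l
  have h4 := mul_mem (inv_mem h3) h2
  rwa [pow_succ, inv_mul_cancel_left] at h4

/-- An element of `K` fixing `y ∈ Q \ Z` modulo `Z` is trivial. -/
theorem kGrp_fix_mod (hC : Ctx G Ω a t Q) (hU : IsUni G a Q) {k y : G} (hk : k ∈ kGrp G a t)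
    (hy : y ∈ Q) (hyZ : y ∉ zGrp G a) (h : y⁻¹ * (k * y * k⁻¹) ∈ zGrp G a) : k = 1 := by
  by_contra hk1
  have hc : Commute (y⁻¹ * (k * y * k⁻¹)) y := hC.zGrp_central h hy
  have e : k * (y * y) * k⁻¹ = y * y := by
    calc k * (y * y) * k⁻¹ = y * ((y⁻¹ * (k * y * k⁻¹)) * y) * (y⁻¹ * (k * y * k⁻¹)) := by group
      _ = y * y * ((y⁻¹ * (k * y * k⁻¹)) * (y⁻¹ * (k * y * k⁻¹))) := by rw [hc.eq]; group
      _ = y * y := by rw [hC.zGrp_sq h, mul_one]
  exact hyZ (hU.invol_mem y hy (hC.kGrp_fpf hk hk1 (hC.zGrp_le (hU.sq_mem y hy))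
    (mul_inv_eq_iff_eq_mul.1 e)))

/-- A nontrivial element of `W` centralises only `Z` in `Q`. -/
theorem cent_w (hC : Ctx G Ω a t Q) (hU : IsUni G a Q) {w : G} (hw : w ∈ wGrp G a t)
    (hw1 : w ≠ 1) {x : G} (hx : x ∈ Q) (hxw : Commute w x) : x ∈ zGrp G a := by
  classical
  set Z := zGrp G a with hZ
  obtain ⟨hwD, hwz⟩ := hC.mem_wGrp.1 hw
  set C := Q ⊓ centralizer ({w} : Set G) with hCdef
  have hZC : Z ≤ C := fun z hz =>
    ⟨hC.zGrp_le hz, mem_centralizer_singleton_iff.2 (hwz z hz).symm.eq⟩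
  obtain ⟨j, hj⟩ := hC.card_eq_pow (S := C) inf_le_left (hU.two_group.to_le inf_le_left) (by
    intro k hk y hy
    refine ⟨conj_mem_Q hC.setup (twoPt_le (Ctx.kGrp_le G a t hk)) hy.1,
      mem_centralizer_singleton_iff.2 ?_⟩
    have hkw := (hC.wGrp_kGrp hw hk).symm
    exact ((hkw.mul_left (show Commute y w from mem_centralizer_singleton_iff.1 hy.2)).mul_left
      hkw.inv_left).eq)
  have hq := hC.four_le_qq
  have hle := card_dvd_of_le (inf_le_left : C ≤ Q)
  rw [hj, hU.card, Nat.pow_dvd_pow_iff_le_right (by omega)] at hle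
  have hge := card_dvd_of_le hZC
  rw [hj] at hge
  have hj0 : j ≠ 0 := fun e => by
    rw [e, pow_zero] at hge
    have : qq G a = 1 := Nat.dvd_one.1 hge
    omega
  interval_cases j
  · omega
  · have : C = Z := (eq_of_le_of_card_ge hZC (by rw [hj, pow_one]; rfl)).symm
    exact this ▸ (show x ∈ C from ⟨hx, mem_centralizer_singleton_iff.2 hxw.symm.eq⟩)
  · exfalso
    apply hw1
    let Z' := Z.subgroupOf Q
    haveI hZn : Z'.Normal := ⟨fun z hz y => by
      rw [mem_subgroupOf] at hz ⊢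
      exact hC.conj_mem_zGrp (hC.setup.le y.2) hz⟩
    have hcomm : ∀ A B : ↥Q ⧸ Z', A * B = B * A := by
      intro A B
      induction A using QuotientGroup.induction_on with
      | H x =>
        induction B using QuotientGroup.induction_on with
        | H y =>
          rw [← QuotientGroup.mk_mul, ← QuotientGroup.mk_mul, QuotientGroup.eq, mem_subgroupOf]
          have e : ((x * y)⁻¹ * (y * x) : ↥Q).1 = (y : G)⁻¹ * (x : G)⁻¹ * y * x := by
            simp [mul_assoc]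
          rw [e]
          exact hU.comm_mem _ y.2 _ x.2
    letI : CommGroup (↥Q ⧸ Z') :=
      { (inferInstance : Group (↥Q ⧸ Z')) with mul_comm := hcomm }
    let cw : ↥Q →* ↥Q := MonoidHom.mk'
      (fun y => ⟨w * y * w⁻¹, conj_mem_Q hC.setup (twoPt_le hwD) y.2⟩)
      (fun y y' => Subtype.ext
        (show w * (y * y') * w⁻¹ = (w * y * w⁻¹) * (w * y' * w⁻¹) by group))
    let ψ : ↥Q →* ↥Q ⧸ Z' := (QuotientGroup.mk' Z')⁻¹ * (QuotientGroup.mk' Z').comp cw
    have hψ : ∀ y : ↥Q, ψ y = ((y⁻¹ * cw y : ↥Q) : ↥Q ⧸ Z') := fun y => rfl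
    have hker : C.subgroupOf Q ≤ ψ.ker := by
      intro y hy
      rw [MonoidHom.mem_ker, hψ]
      have : cw y = y := Subtype.ext (show w * y * w⁻¹ = y from mul_inv_eq_iff_eq_mul.2
        (mem_centralizer_singleton_iff.1 (mem_subgroupOf.1 hy).2).symm)
      rw [this, inv_mul_cancel]
      rfl
    have hCi : (C.subgroupOf Q).index = qq G a := by
      have h1 := card_mul_index (C.subgroupOf Q)
      rw [Nat.card_congr (subgroupOfEquivOfLe (inf_le_left : C ≤ Q)).toEquiv, hj, hU.card] at h1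
      exact mul_left_cancel₀ (pow_ne_zero 2 (by omega)) (h1.trans (pow_succ _ 2))
    have hR : Nat.card ψ.range ≤ qq G a := by
      rw [← Subgroup.index_ker, ← hCi]
      exact Nat.le_of_dvd (Nat.pos_of_ne_zero index_ne_zero_of_finite) (index_dvd_of_le hker)
    have hall : ∀ u : ↥Q, (u : G)⁻¹ * (w * u * w⁻¹) ∈ Z := by
      intro u
      by_contra hu
      set y : ↥Q := u⁻¹ * cw u with hy
      let e : kGrp G a t → {r : ψ.range // r ≠ 1} := fun k =>
        ⟨⟨((⟨k * y * (k : G)⁻¹,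
          conj_mem_Q hC.setup (twoPt_le (Ctx.kGrp_le G a t k.2)) y.2⟩ : ↥Q) : ↥Q ⧸ Z'),
          ⟨⟨k * u * (k : G)⁻¹, conj_mem_Q hC.setup (twoPt_le (Ctx.kGrp_le G a t k.2)) u.2⟩, by
            rw [hψ]
            refine congrArg _ (Subtype.ext ?_)
            have hkw : w * k = k * w := (hC.wGrp_kGrp hw k.2).eq
            show ((k : G) * u * (k : G)⁻¹)⁻¹ * (w * (k * u * (k : G)⁻¹) * w⁻¹) =
              k * ((u : G)⁻¹ * (w * u * w⁻¹)) * (k : G)⁻¹
            have hkw' : (k : G)⁻¹ * w⁻¹ = w⁻¹ * (k : G)⁻¹ := by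
              rw [← mul_inv_rev, ← mul_inv_rev, hkw]
            calc ((k : G) * u * (k : G)⁻¹)⁻¹ * (w * (k * u * (k : G)⁻¹) * w⁻¹)
                = k * (u : G)⁻¹ * (k : G)⁻¹ * ((w * k) * u * ((k : G)⁻¹ * w⁻¹)) := by group
              _ = k * ((u : G)⁻¹ * (w * u * w⁻¹)) * (k : G)⁻¹ := by rw [hkw, hkw']; group⟩⟩,
          fun h => hu (by
            have h1 := mem_subgroupOf.1 ((QuotientGroup.eq_one_iff _).1 (congrArg Subtype.val h))
            have h2 := hC.conj_mem_zGrp (inv_mem (twoPt_le (Ctx.kGrp_le G a t k.2))) h1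
            simpa [y, cw, mul_assoc] using h2)⟩
      have hei : Function.Injective e := by
        intro k k' h
        have h1 := mem_subgroupOf.1 (QuotientGroup.eq.1 (congrArg (fun r => (r.1 : ↥Q ⧸ Z')) h))
        have h2 := hC.conj_mem_zGrp (inv_mem (twoPt_le (Ctx.kGrp_le G a t k.2))) h1
        have h3 : (y : G)⁻¹ * (((k : G)⁻¹ * k') * y * ((k : G)⁻¹ * k')⁻¹) ∈ Z := by
          simpa [mul_assoc] using h2
        exact Subtype.ext (inv_mul_eq_one.1 (kGrp_fix_mod hC hU (mul_mem (inv_mem k.2) k'.2) y.2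
          (fun hyz => hu (by simpa [y, cw] using hyz)) h3))
      have hes : Function.Surjective e := (hei.bijective_of_nat_card_le (by
        have h1 : Nat.card {r : ψ.range // r ≠ 1} + 1 = Nat.card ψ.range := by
          rw [← Nat.card_congr (Equiv.optionSubtypeNe (1 : ψ.range)), Finite.card_option]
        have h2 := hC.card_kGrp
        omega)).2
      have hwy : (⟨w * y * w⁻¹, conj_mem_Q hC.setup (twoPt_le hwD) y.2⟩ : ↥Q) = (cw u)⁻¹ * cw (cw u) :=
        show cw y = _ by rw [hy, map_mul, map_inv]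
      obtain ⟨k, hk⟩ := hes ⟨⟨((⟨w * y * w⁻¹, conj_mem_Q hC.setup (twoPt_le hwD) y.2⟩ : ↥Q) :
        ↥Q ⧸ Z'), ⟨cw u, by rw [hψ, hwy]⟩⟩, fun h => hu (by
          have h1 := mem_subgroupOf.1 ((QuotientGroup.eq_one_iff _).1 (congrArg Subtype.val h))
          have h2 := hC.conj_mem_zGrp (inv_mem (twoPt_le hwD)) h1
          simpa [y, cw, mul_assoc] using h2)⟩
      have h1 := mem_subgroupOf.1 (QuotientGroup.eq.1 (congrArg (fun r => (r.1 : ↥Q ⧸ Z')) hk))
      have hz : ((k : G) * y * (k : G)⁻¹)⁻¹ * (w * y * w⁻¹) ∈ Z := h1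
      have hcz := hC.zGrp_central hz (conj_mem_Q hC.setup (twoPt_le (Ctx.kGrp_le G a t k.2)) y.2)
      have hsq : k * ((y : G) * y) * (k : G)⁻¹ = y * y := by
        have e1 : w * ((y : G) * y) * w⁻¹ = y * y := by
          rw [(hwz _ (hU.sq_mem y y.2)).eq, mul_inv_cancel_right]
        refine Eq.trans ?_ e1
        set A := (k : G) * y * (k : G)⁻¹ with hA
        set z0 := A⁻¹ * (w * y * w⁻¹) with hz0
        calc (k : G) * (y * y) * (k : G)⁻¹ = A * A * (z0 * z0) := by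
              rw [hC.zGrp_sq hz, mul_one, hA]; group
          _ = A * (z0 * A) * z0 := by rw [hcz.eq]; group
          _ = w * (y * y) * w⁻¹ := by rw [hz0]; group
      have hk1 : (k : G) = 1 := by
        by_contra hk1
        have h7 := hU.invol_mem y y.2
          (hC.kGrp_fpf k.2 hk1 (hC.zGrp_le (hU.sq_mem y y.2)) (mul_inv_eq_iff_eq_mul.1 hsq))
        exact hu h7
      rw [hk1] at hz
      have h8 : ((u : G) * y)⁻¹ * (w * u * w⁻¹) ∈ Z := by simp [y, cw, mul_assoc]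
      have h9 : (y : G)⁻¹ * (w * y * w⁻¹) ∈ Z := by
        rwa [one_mul, inv_one, mul_one] at hz
      exact hu (unipotent_mem hC hU hwD u.2 y.2 h8 h9)
    refine Residual.eq_one_of_cent_Q hC hwD fun y hy => ?_
    have hz := hall ⟨y, hy⟩
    have hcz := hC.zGrp_central hz hy
    set z := y⁻¹ * (w * y * w⁻¹) with hzdef
    have hstep : ∀ n : ℕ, w ^ n * y * (w ^ n)⁻¹ = y * z ^ n := by
      intro n
      induction n with
      | zero => simp
      | succ n ih =>
        calc w ^ (n + 1) * y * (w ^ (n + 1))⁻¹ = w ^ n * (y * z) * (w ^ n)⁻¹ := by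
              rw [hzdef, pow_succ]; group
          _ = (w ^ n * y * (w ^ n)⁻¹) * (w ^ n * z * (w ^ n)⁻¹) := by group
          _ = y * z ^ (n + 1) := by
              rw [ih, ((hwz z hz).pow_left n).eq, mul_inv_cancel_right, pow_succ, mul_assoc]
    obtain ⟨l, hl⟩ := odd_orderOf_of_mem hC.setup.odd_card hwD
    have h1 := hstep (orderOf w)
    rw [pow_orderOf_eq_one, one_mul, inv_one, mul_one, hl, pow_succ, pow_mul, pow_two,
      hC.zGrp_sq hz, one_pow, one_mul, left_eq_mul] at h1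
    exact mul_inv_eq_iff_eq_mul.1 (inv_mul_eq_one.1 h1).symm
  · have : C = Q := eq_of_le_of_card_ge inf_le_left (by rw [hj, hU.card])
    exact absurd (Residual.eq_one_of_cent_Q hC hwD fun y hy =>
      (mem_centralizer_singleton_iff.1 (this.symm ▸ hy : y ∈ C).2).symm) hw1

/-- If `W ≠ 1` then `r ∈ Z`. -/
theorem link_mem (hC : Ctx G Ω a t Q) (hU : IsUni G a Q) (hW : wGrp G a t ≠ ⊥) {s r : G}
    (h : IsLink G a t Q s r) : r ∈ zGrp G a := by
  obtain ⟨w, hw, hw1⟩ := (bot_or_exists_ne_one _).resolve_left hW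
  exact cent_w hC hU hw hw1 h.2.1 (hC.link_vGrp h (Ctx.wGrp_le G a t hw)).2

end UniLines

end Cfsg.Agent.RankOneClass
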