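import Cfsg.Agent.RankOneClass.Sigma
import Cfsg.Agent.RankOneClass.Lines.CentW

/-!
Stage C: `Σ` centralises `W`, is faithful on the circle and regular outside it.
-/

set_option autoImplicit false

open Subgroup MulAction
open scoped Pointwise

namespace Cfsg.Agent.RankOneClass

open Cfsg.Agent.RankOne

universe u v

variable {G : Type u} {Ω : Type v} [Group G] [Finite G] [MulAction G Ω] {a : Ω} {t : G}
  {Q : Subgroup G}

namespace UniLines

/-- `Σ` is transitive on ordered pairs of the circle. -/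
theorem sig_pair (hC : Ctx G Ω a t Q) {s r : G} (h : IsLink G a t Q s r) (hr : r ∈ zGrp G a)
    {c : Ω} (hc : c ∈ line0 G a t) : ∃ g ∈ sigGrp G a t, g • c = a := by
  rcases Ctx.mem_line0.1 hc with rfl | ⟨z, hz, rfl⟩
  · exact ⟨1, one_mem _, one_smul _ _⟩
  · exact ⟨t * z⁻¹, mul_mem (mem_sup_right (subset_closure rfl)) (inv_mem (mem_sup_left hz)),
      by rw [mul_smul, inv_smul_smul, t_smul_smul hC.setup]⟩

omit [Finite G] in
theorem sig_comm [Finite G] (hC : Ctx G Ω a t Q) :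
    ∀ g ∈ sigGrp G a t, ∀ w ∈ wGrp G a t, Commute g w := by
  intro g hg w hw
  have hle : sigGrp G a t ≤ centralizer ({w} : Set G) := by
    refine sup_le (fun z hz => mem_centralizer_singleton_iff.2
      ((hC.mem_wGrp.1 hw).2 z hz).symm.eq) ((closure_le _).2 (Set.singleton_subset_iff.2 ?_))
    exact mem_centralizer_singleton_iff.2 (Ctx.mem_vGrp.1 (Ctx.wGrp_le G a t hw)).2.eq
  exact mem_centralizer_singleton_iff.1 (hle hg)

theorem sig_faithful (hC : Ctx G Ω a t Q) (hU : IsUni G a Q) (hW : wGrp G a t ≠ ⊥) :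
    ∀ g ∈ sigGrp G a t, (∀ p ∈ line0 G a t, g • p = p) → g = 1 := by
  intro g hg hfix
  obtain ⟨s, r, h⟩ := hC.exists_link
  have hr := link_mem hC hU hW h
  have hk := hC.sig_twoPt h hr hg
    (mem_twoPt.2 ⟨hfix a (Ctx.a_mem_line0 _ _), hfix _ (Ctx.b_mem_line0 _ _)⟩)
  have hsQ := mem_I_Q hC.setup h.1
  exact Residual.kGrp_free hC hk (Q_smul_ne hC.setup hsQ (t_smul_ne hC.setup))
    (fun e => h.1.2.1 (Q_free hC.setup hsQ (t_smul_ne hC.setup) e))
    (hfix _ (Ctx.mem_line0.2 (Or.inr ⟨s, subset_closure h.1, rfl⟩)))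

/-- An element of `Σ` moving `a` is inverted by an involution of `Σ` with centre on the circle. -/
theorem exists_inverter (hC : Ctx G Ω a t Q) {s r : G} (h : IsLink G a t Q s r)
    (hr : r ∈ zGrp G a) {g : G} (hg : g ∈ sigGrp G a t) (hga : g • a ≠ a) :
    ∃ u ∈ sigGrp G a t, u * u = 1 ∧ u ≠ 1 ∧ u * g * u = g⁻¹ ∧
      ∃ c ∈ line0 G a t, u • c = c := by
  have hS := hC.setup
  have hd : g • a ∈ line0 G a t := by
    rw [← hC.smul_line0 h hr hg]; exact Set.smul_mem_smul_set (Ctx.a_mem_line0 _ _)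
  obtain ⟨z, hz, hzd⟩ := (Ctx.mem_line0.1 hd).resolve_left hga
  have hza : z • a = a := smul_a_of_mem_Q hS (hC.zGrp_le hz)
  have hzz := hC.zGrp_sq hz
  have ht : t ∈ sigGrp G a t := mem_sup_right (subset_closure rfl)
  have hzS : z ∈ sigGrp G a t := mem_sup_left hz
  have h0 : (z * t * z * g) • a = a := by
    rw [mul_smul, ← hzd, mul_smul, mul_smul, smul_smul z z, hzz, one_smul, t_smul_smul hS, hza]
  obtain ⟨z1, hz1, k1, hk1, e1⟩ := hC.sig_stabilizer h hr
    (mul_mem (mul_mem (mul_mem hzS ht) hzS) hg) h0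
  have hk := inv_mem hk1
  have htk : t * k1⁻¹ * t = k1 := by simpa using hC.t_conj_kGrp hk
  set u := z * k1⁻¹ * t * z with hu
  have hkS : k1⁻¹ ∈ sigGrp G a t := by
    rw [← SetLike.mem_coe, hC.coe_sigGrp h hr]
    exact ⟨1, one_mem _, _, hk, Or.inl (one_mul _).symm⟩
  have huu : u * u = 1 := by
    calc u * u = z * k1⁻¹ * (t * (z * z) * k1⁻¹ * t) * z := by rw [hu]; group
      _ = 1 := by rw [hzz, mul_one, htk, inv_mul_cancel_right, hzz]
  have hug : u * g ∈ zGrp G a := by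
    have e : u * g = z * (k1⁻¹ * (z * z1) * k1⁻¹⁻¹) := by
      calc u * g = z * k1⁻¹ * z * (z * t * z * g) := by
            rw [hu]
            calc z * k1⁻¹ * t * z * g = z * k1⁻¹ * (z * z) * t * z * g := by rw [hzz]; group
              _ = z * k1⁻¹ * z * (z * t * z * g) := by group
        _ = _ := by rw [e1]; group
    rw [e]
    exact mul_mem hz (hC.conj_mem_zGrp (twoPt_le (Ctx.kGrp_le G a t hk)) (mul_mem hz hz1))
  have hua : u • a = g • a := by
    rw [hu, mul_smul, mul_smul, mul_smul, hza, (mem_twoPt.1 (Ctx.kGrp_le G a t hk)).2, hzd]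
  refine ⟨u, mul_mem (mul_mem (mul_mem hzS hkS) ht) hzS, huu,
    fun e => hga (by rw [← hua, e, one_smul]), eq_inv_of_mul_eq_one_left ?_, ?_⟩
  · calc u * g * u * g = (u * g) * (u * g) := by group
      _ = 1 := hC.zGrp_sq hug
  -- the centre
  obtain ⟨c, hcK, hcc⟩ : ∃ c ∈ kGrp G a t, c * c = k1⁻¹ :=
    ⟨oddRoot k1⁻¹, oddRoot_mem hk,
      oddRoot_mul_self (odd_orderOf_of_mem hS.odd_card (Ctx.kGrp_le G a t hk))⟩
  have htc : t * c * t = c⁻¹ := hC.t_conj_kGrp hcK
  have hfix : t • r • (t • a) = r • (t • a) := by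
    have h1 : (t * s * t) • (t • a) = t • a := by
      rw [mul_smul, mul_smul, t_smul_smul hS, smul_a_of_mem_Q hS (mem_I_Q hS h.1)]
    rw [h.2.2, hC.zGrp_inv hr, mul_smul, mul_smul] at h1
    exact (eq_inv_smul_iff.2 h1).trans (by rw [hC.zGrp_inv hr])
  have hzc : z * c ∈ sigGrp G a t := by
    rw [← SetLike.mem_coe, hC.coe_sigGrp h hr]
    exact ⟨z, hz, c, hcK, Or.inl rfl⟩
  refine ⟨(z * c) • r • (t • a), ?_, ?_⟩
  · rw [← hC.smul_line0 h hr hzc]
    exact Set.smul_mem_smul_set (Ctx.mem_line0.2 (Or.inr ⟨r, hr, rfl⟩))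
  · have e : u * (z * c) = z * c * t := by
      calc u * (z * c) = z * (c * c) * t * (z * z) * c := by rw [hu, hcc]; group
        _ = z * c * (c * (t * c * t)) * t := by
            rw [hzz]; simp only [mul_assoc, hS.mul_self, mul_one]
        _ = z * c * t := by rw [htc, mul_inv_cancel, mul_one]
    rw [← mul_smul, e, mul_smul, hfix]

/-- An element of `Σ` fixing `a` and a point off the circle is trivial. -/
theorem free_of_fix_a (hC : Ctx G Ω a t Q) {s r : G} (h : IsLink G a t Q s r)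
    (hr : r ∈ zGrp G a) {g : G} (hg : g ∈ sigGrp G a t) (hga : g • a = a) {p : Ω}
    (hp : p ∉ line0 G a t) (hgp : g • p = p) : g = 1 := by
  have hS := hC.setup
  obtain ⟨z, hz, k, hk, rfl⟩ := hC.sig_stabilizer h hr hg hga
  have hpa : p ≠ a := fun e => hp (e ▸ Ctx.a_mem_line0 _ _)
  by_cases hk1 : k = 1
  · subst hk1
    rw [mul_one] at hgp ⊢
    exact Q_free hS (hC.zGrp_le hz) hpa hgp
  exfalso
  let f : zGrp G a → zGrp G a := fun y => ⟨y * (k * (y : G)⁻¹ * k⁻¹),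
    mul_mem y.2 (hC.conj_mem_zGrp (twoPt_le (Ctx.kGrp_le G a t hk)) (inv_mem y.2))⟩
  have hf : Function.Injective f := by
    intro y y' e
    have e' : (y : G) * (k * (y : G)⁻¹ * k⁻¹) = y' * (k * (y' : G)⁻¹ * k⁻¹) := congrArg Subtype.val e
    have h1 : k * ((y' : G)⁻¹ * y) = ((y' : G)⁻¹ * y) * k := by
      calc k * ((y' : G)⁻¹ * y)
          = (y' : G)⁻¹ * (y' * (k * (y' : G)⁻¹ * k⁻¹)) * k * y := by group
        _ = (y' : G)⁻¹ * (y * (k * (y : G)⁻¹ * k⁻¹)) * k * y := by rw [e']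
        _ = _ := by group
    exact Subtype.ext (inv_mul_eq_one.1 (hC.kGrp_fpf hk hk1
      (hC.zGrp_le (mul_mem (inv_mem y'.2) y.2)) h1)).symm
  obtain ⟨⟨y, hy⟩, hyz⟩ := (Finite.injective_iff_surjective.1 hf) ⟨z, hz⟩
  have hyz' : y * (k * y⁻¹ * k⁻¹) = z := congrArg Subtype.val hyz
  have hconj : y * (z * k) * y⁻¹ = k := by
    calc y * (z * k) * y⁻¹ = (y * z) * k * y⁻¹ := by group
      _ = (z * y) * k * y⁻¹ := by rw [(hC.zGrp_comm hy hz).eq]
      _ = z * (y * (k * y⁻¹ * k⁻¹)) * k := by group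
      _ = k := by rw [hyz', hC.zGrp_sq hz, one_mul]
  have hyS : y ∈ sigGrp G a t := mem_sup_left hy
  have hyp : y • p ∉ line0 G a t := fun e => hp (by
    rw [← hC.smul_line0 h hr hyS] at e
    exact Set.smul_mem_smul_set_iff.1 e)
  refine hk1 (Residual.kGrp_free hC hk (fun e => hyp (e ▸ Ctx.a_mem_line0 _ _))
    (fun e => hyp (e ▸ Ctx.b_mem_line0 _ _)) ?_)
  rw [← hconj, mul_smul, mul_smul, inv_smul_smul, hgp]

/-- An element of `Σ` fixing a point of the circle and a point off it is trivial. -/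
theorem free_of_fix_line (hC : Ctx G Ω a t Q) {s r : G} (h : IsLink G a t Q s r)
    (hr : r ∈ zGrp G a) {g : G} (hg : g ∈ sigGrp G a t) {c : Ω} (hc : c ∈ line0 G a t)
    (hgc : g • c = c) {p : Ω} (hp : p ∉ line0 G a t) (hgp : g • p = p) : g = 1 := by
  obtain ⟨x, hx, hxc⟩ := sig_pair hC h hr hc
  have hxp : x • p ∉ line0 G a t := fun e => hp (by
    rw [← hC.smul_line0 h hr hx] at e
    exact Set.smul_mem_smul_set_iff.1 e)
  refine conj_eq_one_iff.1 (free_of_fix_a hC h hr (mul_mem (mul_mem hx hg) (inv_mem hx))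
    (by rw [← hxc, mul_smul, mul_smul, inv_smul_smul, hgc]) hxp
    (by rw [mul_smul, mul_smul, inv_smul_smul, hgp]))

theorem sig_free (hC : Ctx G Ω a t Q) (hU : IsUni G a Q) (hW : wGrp G a t ≠ ⊥) :
    ∀ g ∈ sigGrp G a t, ∀ p : Ω, p ∉ line0 G a t → g • p = p → g = 1 := by
  classical
  intro g hg p hp hgp
  have hS := hC.setup
  haveI := finite_points hS
  obtain ⟨s, r, h⟩ := hC.exists_link
  have hr := link_mem hC hU hW h
  by_contra hg1
  by_cases hga : g • a = a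
  · exact hg1 (free_of_fix_a hC h hr hg hga hp hgp)
  obtain ⟨u, hu, huu, hu1, hinv, c, hc, huc⟩ := exists_inverter hC h hr hg hga
  have hup : u • p ≠ p := fun e => hp (by rw [fixed_point_unique hS huu hu1 huc e]; exact hc)
  have hgu : g • u • p = u • p := by
    have e : g * u = u * g⁻¹ := by
      rw [← hinv]
      calc g * u = (u * u) * g * u := by rw [huu, one_mul]
        _ = u * (u * g * u) := by group
    rw [← mul_smul, e, mul_smul, inv_smul_eq_iff.2 hgp.symm]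
  obtain ⟨x, hxa, hxb⟩ := exists_smul_pair hS hup.symm (t_smul_ne hS).symm
  set g' := x * g * x⁻¹ with hg'
  set u' := x * u * x⁻¹ with hu'
  have hg'D : g' ∈ twoPt G a t := mem_twoPt.2
    ⟨by rw [hg', ← hxa, mul_smul, mul_smul, inv_smul_smul, hgp],
      by rw [hg', ← hxb, mul_smul, mul_smul, inv_smul_smul, hgu]⟩
  have hk0 : u' * t ∈ kGrp G a t := hC.mem_kGrp.2 (mem_invertedBy_of_swap hS
    (by rw [hu', conj_mul, huu, mul_one, mul_inv_cancel])
    (by
      rw [hu', ← hxb]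
      conv_lhs => rw [← hxa]
      rw [mul_smul, mul_smul, inv_smul_smul]))
  set k0 := u' * t with hk0'
  have hu'k : u' = k0 * t := by rw [hk0', mul_assoc, hS.mul_self, mul_one]
  obtain ⟨k, hk, c', hc', e⟩ := hC.exists_kv hg'D
  have htc : Commute t c' := (Ctx.mem_vGrp.1 hc').2
  have hi : u' * g' * u'⁻¹ = g'⁻¹ := by
    rw [hu', hg', show x * g * x⁻¹ = x * g * x⁻¹ from rfl]
    calc x * u * x⁻¹ * (x * g * x⁻¹) * (x * u * x⁻¹)⁻¹ = x * (u * g * u⁻¹) * x⁻¹ := by group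
      _ = x * g⁻¹ * x⁻¹ := by rw [inv_eq_of_mul_eq_one_right huu, hinv]
      _ = _ := by group
  have hvD := Ctx.vGrp_le G a t hc'
  have h2 : c'⁻¹ * c'⁻¹ ∈ kGrp G a t := by
    have e2 : c'⁻¹ * c'⁻¹ =
        (c'⁻¹ * k⁻¹ * c'⁻¹⁻¹)⁻¹ * (k0 * k⁻¹ * (c' * k0⁻¹ * c'⁻¹)) := by
      have e3 : k0 * k⁻¹ * c' * k0⁻¹ = c'⁻¹ * k⁻¹ := by
        calc k0 * k⁻¹ * c' * k0⁻¹ = k0 * (t * k * t) * c' * k0⁻¹ := by rw [hC.t_conj_kGrp hk]
          _ = k0 * t * (k * (t * c')) * k0⁻¹ := by group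
          _ = k0 * t * (k * c') * (t⁻¹ * k0⁻¹) := by rw [htc.eq, t_inv hS]; group
          _ = u' * g' * u'⁻¹ := by rw [hu'k, e]; group
          _ = c'⁻¹ * k⁻¹ := by rw [hi, e, mul_inv_rev]
      calc c'⁻¹ * c'⁻¹ = (c'⁻¹ * k⁻¹ * c'⁻¹⁻¹)⁻¹ * (c'⁻¹ * k⁻¹) * c'⁻¹ := by group
        _ = _ := by rw [← e3]; group
    rw [e2]
    exact mul_mem (inv_mem (hC.conj_mem_kGrp (inv_mem hvD) (inv_mem hk)))
      (mul_mem (mul_mem hk0 (inv_mem hk)) (hC.conj_mem_kGrp hvD (inv_mem hk0)))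
  have hc1 : c' = 1 := inv_eq_one.1 (eq_one_of_sq_eq_one hS.odd_card (inv_mem hvD)
    (hC.kv_disjoint h2 (mul_mem (inv_mem hc') (inv_mem hc'))))
  rw [hc1, mul_one] at e
  -- so `g ^ (q - 1) = 1`
  have hord : orderOf g ∣ Nat.card (kGrp G a t) := by
    rw [← (MulAut.conj x).orderOf_eq g, show MulAut.conj x g = k from e]
    exact Subgroup.orderOf_dvd_natCard _ hk
  obtain ⟨ℓ, hℓ, hdvd⟩ := Nat.exists_prime_and_dvd (n := orderOf g)
    (fun e1 => hg1 (orderOf_eq_one_iff.1 e1))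
  haveI := Fact.mk hℓ
  have hℓK := hdvd.trans hord
  have hℓodd : Odd ℓ := hC.odd_kGrp.of_dvd_nat hℓK
  set y := g ^ (orderOf g / ℓ) with hy
  have hyo : orderOf y = ℓ := orderOf_pow_orderOf_div (orderOf_pos g).ne' hdvd
  have hyS : y ∈ sigGrp G a t := pow_mem hg _
  have hyp : y • p = p := by
    have : ∀ n : ℕ, (g ^ n) • p = p := fun n => by
      induction n with
      | zero => rw [pow_zero, one_smul]
      | succ n ih => rw [pow_succ, mul_smul, hgp, ih]
    exact this _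
  let π : Equiv.Perm (line0 G a t) := (MulAction.toPerm y).subtypePerm fun d => by
    show y • d ∈ line0 G a t ↔ d ∈ line0 G a t
    conv_lhs => rw [← hC.smul_line0 h hr hyS]
    exact Set.smul_mem_smul_set_iff
  haveI := Fintype.ofFinite (line0 G a t)
  have hπ : π ^ ℓ ^ 1 = 1 := by
    rw [pow_one]
    refine Equiv.ext fun d => Subtype.ext ?_
    have hy1 : y ^ ℓ = 1 := hyo ▸ pow_orderOf_eq_one y
    have hpw : ∀ n : ℕ, ((π ^ n) d : Ω) = (y ^ n) • (d : Ω) := fun n => by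
      induction n with
      | zero => simp
      | succ n ih =>
        rw [pow_succ' π, pow_succ' y, Equiv.Perm.mul_apply, mul_smul, ← ih]
        rfl
    rw [hpw, hy1, one_smul]
    rfl
  have hnd : ¬ℓ ∣ Fintype.card (line0 G a t) := by
    rw [← Nat.card_eq_fintype_card, Nat.card_coe_set_eq, hC.ncard_line0]
    intro hd
    have h3 := hC.card_kGrp
    have h5 : ℓ ∣ 2 := by
      rw [← h3, show Nat.card (kGrp G a t) + 1 + 1 = Nat.card (kGrp G a t) + 2 from rfl] at hd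
      exact (Nat.dvd_add_right hℓK).1 hd
    have := Nat.le_of_dvd (by norm_num) h5
    have := hℓ.two_le
    obtain ⟨j, hj⟩ := hℓodd
    omega
  obtain ⟨⟨d, hd⟩, hfd⟩ := Equiv.Perm.exists_fixed_point_of_prime hnd hπ
  have := free_of_fix_line hC h hr hyS hd (congrArg Subtype.val hfd) hp hyp
  rw [this, orderOf_one] at hyo
  exact hℓ.ne_one hyo.symm

theorem sig_trans (hC : Ctx G Ω a t Q) (hU : IsUni G a Q) (hW : wGrp G a t ≠ ⊥) :
    ∀ p p' : Ω, p ∉ line0 G a t → p' ∉ line0 G a t → ∃ g ∈ sigGrp G a t, g • p = p' := by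
  intro p p' hp hp'
  have hS := hC.setup
  haveI := finite_points hS
  obtain ⟨s, r, h⟩ := hC.exists_link
  have hr := link_mem hC hU hW h
  let f : sigGrp G a t → {d : Ω // d ∉ line0 G a t} := fun g => ⟨(g : G) • p, fun e => hp (by
    rw [← hC.smul_line0 h hr g.2] at e
    exact Set.smul_mem_smul_set_iff.1 e)⟩
  have hf : Function.Injective f := fun g g' e => by
    have e' : (g : G) • p = (g' : G) • p := congrArg Subtype.val e
    refine Subtype.ext (inv_mul_eq_one.1 (sig_free hC hU hW _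
      (mul_mem (inv_mem g'.2) g.2) p hp ?_)).symm
    rw [mul_smul, e', inv_smul_smul]
  have hcard : Nat.card {d : Ω // d ∉ line0 G a t} ≤ Nat.card (sigGrp G a t) := by
    rw [hC.card_sigGrp h hr, show {d : Ω // d ∉ line0 G a t} = ↥(line0 G a t)ᶜ from rfl,
      Nat.card_coe_set_eq, Set.ncard_compl, hC.ncard_line0, card_points hS, hU.card,
      Nat.mul_sub_one]
    have : qq G a * qq G a ^ 2 = qq G a ^ 3 := by ring
    omega
  obtain ⟨g, hg⟩ := (hf.bijective_of_nat_card_le hcard).2 ⟨p', hp'⟩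
  exact ⟨g, g.2, congrArg Subtype.val hg⟩

end UniLines

end Cfsg.Agent.RankOneClass
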