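import Cfsg.Agent.RankOneClass.Lines.Line
import Cfsg.Agent.RankOneClass.Lines.Regular
import Cfsg.Agent.Zassenhaus.EvenSharp
import Cfsg.Agent.BenderTI.KTwo
import Cfsg.Agent.SL2Class.Torus
import Mathlib.GroupTheory.SpecificGroups.ZGroup

/-!
Stage C: `W` acts off the circle like a subgroup of a cyclic torus of `Σ ≅ SL₂(q)` of order `q + 1`.
-/

set_option autoImplicit false

open Subgroup MulAction
open scoped commutatorElement

namespace Cfsg.Agent.RankOneClass

open Cfsg.Agent.RankOne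

universe u v

namespace UniLines

section General

/-- A semiregular group divides the number of points. -/
theorem card_dvd_of_free {H : Type*} [Group H] [Finite H] {X : Type*} [MulAction H X] [Finite X]
    (hfree : ∀ (h : H) (x : X), h • x = x → h = 1) : Nat.card H ∣ Nat.card X := by
  have e := (MulAction.selfEquivSigmaOrbits H X).trans
    ((Equiv.sigmaCongrRight fun w => (Equiv.ofBijective
      (fun h : H => (⟨h • w.out, h, rfl⟩ : MulAction.orbit H w.out))
      ⟨fun h k e => by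
        have e' : h • w.out = k • w.out := congrArg Subtype.val e
        exact (inv_mul_eq_one.1 (hfree (k⁻¹ * h) w.out (by rw [mul_smul, e', inv_smul_smul]))).symm,
      fun x => by obtain ⟨_, h, rfl⟩ := x; exact ⟨h, rfl⟩⟩).symm).trans
      (Equiv.sigmaEquivProd _ _))
  rw [Nat.card_congr e, Nat.card_prod]
  exact dvd_mul_left _ _

variable {F : Type} [Field F] [Fintype F] [CharP F 2]

open SL2Class in
/-- In `SL(2, 2^f)` a nontrivial subgroup of order dividing `q + 1` lies in a cyclic torus. -/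
theorem exists_torus_sl2 (A : Subgroup (Matrix.SpecialLinearGroup (Fin 2) F)) (hne : A ≠ ⊥)
    (hq : Even (Fintype.card F)) (hA : Nat.card A ∣ Fintype.card F + 1) :
    ∃ T : Subgroup (Matrix.SpecialLinearGroup (Fin 2) F),
      A ≤ T ∧ IsCyclic T ∧ Nat.card T = Fintype.card F + 1 := by
  classical
  have h2 : (2 : F) = 0 := CharTwo.two_eq_zero
  have hodd : Odd (Nat.card A) := (Even.add_one hq).of_dvd_nat hA
  have hord : ∀ x ∈ A, orderOf x ∣ Nat.card A := fun x hx => by
    rw [← Subgroup.orderOf_mk x hx]; exact orderOf_dvd_natCard _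
  have hsq : ∀ x ∈ A, x ≠ 1 → tr x * tr x ≠ 4 := by
    intro x hx hx1 e
    have h0 : tr x = 0 := (sq_eq_four_iff_even h2 _).1 e
    refine hx1 (InvAb.odd_ne_inv2 (hodd.of_dvd_nat (hord x hx)) (Subtype.ext ?_))
    rw [Matrix.SpecialLinearGroup.coe_mul, g_sq, h0, Matrix.SpecialLinearGroup.coe_one,
      CharTwo.neg_eq (1 : F), lin_one]
  have hcent : ∀ x ∈ A, x ≠ 1 → IsCyclic ↥(centralizer ({x} : Set _)) ∧
      Nat.card ↥(centralizer ({x} : Set _)) = Fintype.card F + 1 := by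
    intro x hx hx1
    refine ⟨isCyclic_centralizer (hsq x hx hx1), ?_⟩
    rcases card_cent_semisimple (hsq x hx hx1) with e | e
    · exfalso
      have h1 : orderOf x ∣ Fintype.card F - 1 := by
        rw [← e, ← Subgroup.orderOf_mk x (self_mem_cent x)]; exact orderOf_dvd_natCard _
      have h3 : orderOf x ∣ (Fintype.card F + 1) - (Fintype.card F - 1) :=
        Nat.dvd_sub ((hord x hx).trans hA) h1
      rw [show (Fintype.card F + 1) - (Fintype.card F - 1) = 2 by
        have := Fintype.card_pos (α := F); omega] at h3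
      rcases (Nat.dvd_prime Nat.prime_two).1 h3 with e | e
      · exact hx1 (orderOf_eq_one_iff.1 e)
      · have := hodd.of_dvd_nat (hord x hx)
        rw [e] at this
        exact absurd this (by decide)
    · exact e
  -- `A` is a Z-group
  haveI : IsZGroup A := ⟨fun p hp P => by
    haveI := Fact.mk hp
    rcases subsingleton_or_nontrivial ↥(P : Subgroup A) with h | h
    · infer_instance
    haveI := P.2.center_nontrivial
    obtain ⟨z, hz⟩ := exists_ne (1 : Subgroup.center ↥(P : Subgroup A))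
    set x : Matrix.SpecialLinearGroup (Fin 2) F := z.1.1.1 with hxdef
    have hxA : x ∈ A := ((z : ↥(P : Subgroup A)) : A).2
    have hx1 : x ≠ 1 := fun e => hz (Subtype.ext (Subtype.ext (Subtype.ext e)))
    haveI := (hcent x hxA hx1).1
    refine isCyclic_of_injective ((A.subtype.comp (P : Subgroup A).subtype).codRestrict
      (centralizer ({x} : Set _)) fun y => mem_centralizer_singleton_iff.2 ?_) ?_
    · exact congrArg (fun w : ↥(P : Subgroup A) => ((w : A) : Matrix.SpecialLinearGroup (Fin 2) F))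
        (Subgroup.mem_center_iff.1 z.2 y)
    · intro y y' e
      have e' : ((y : A) : Matrix.SpecialLinearGroup (Fin 2) F) = ((y' : A) : _) :=
        congrArg (fun c : ↥(centralizer ({x} : Set (Matrix.SpecialLinearGroup (Fin 2) F))) =>
          (c : Matrix.SpecialLinearGroup (Fin 2) F)) e
      exact Subtype.ext (Subtype.ext e')⟩
  -- an element whose conjugates under `A` commute with it
  obtain ⟨h, hh, hh1, hconj⟩ : ∃ h ∈ A, h ≠ 1 ∧ ∀ x ∈ A, Commute (x * h * x⁻¹) h := by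
    by_cases hc : commutator A = ⊥
    · obtain ⟨h, hh, hh1⟩ := (bot_or_exists_ne_one _).resolve_left hne
      refine ⟨h, hh, hh1, fun x hx => ?_⟩
      have e : ⁅(⟨x, hx⟩ : A), ⟨h, hh⟩⁆ ∈ commutator A :=
        commutator_mem_commutator (mem_top _) (mem_top _)
      rw [hc, mem_bot, commutatorElement_eq_one_iff_commute] at e
      rw [show x * h = h * x from congrArg Subtype.val e.eq, mul_inv_cancel_right]
    · obtain ⟨h, hh, hh1⟩ := (bot_or_exists_ne_one _).resolve_left hc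
      refine ⟨h, h.2, fun e => hh1 (Subtype.ext e), fun x hx => ?_⟩
      have hn : (⟨x, hx⟩ : A) * h * (⟨x, hx⟩ : A)⁻¹ ∈ commutator A :=
        Subgroup.Normal.conj_mem inferInstance h hh _
      obtain ⟨g, hg⟩ := (IsZGroup.isCyclic_commutator (G := A)).exists_generator
      obtain ⟨i, hi⟩ := mem_zpowers_iff.1 (hg ⟨_, hn⟩)
      obtain ⟨j, hj⟩ := mem_zpowers_iff.1 (hg ⟨h, hh⟩)
      exact congrArg (fun w : commutator A => ((w : A) : Matrix.SpecialLinearGroup (Fin 2) F))
        ((hi ▸ hj ▸ (Commute.refl g).zpow_zpow i j :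
          Commute (⟨_, hn⟩ : commutator A) ⟨h, hh⟩).eq)
  refine ⟨centralizer {h}, fun x hx => mem_centralizer_singleton_iff.2 ?_, hcent h hh hh1⟩
  have hodx := hodd.of_dvd_nat (hord x hx)
  rcases eq_or_inv_of_tr (hsq h hh hh1) (mem_centralizer_singleton_iff.2 (hconj x hx).eq)
    (tr_conj x h) with e | e
  · exact mul_inv_eq_iff_eq_mul.1 e
  · have h2' : Commute (x ^ 2) h := by
      show x ^ 2 * h = h * x ^ 2
      rw [pow_two]
      calc x * x * h = x * (x * h * x⁻¹) * x := by group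
        _ = x * h⁻¹ * x := by rw [e]
        _ = (x * h * x⁻¹)⁻¹ * (x * x) := by group
        _ = h * (x * x) := by rw [e, inv_inv]
    obtain ⟨l, hl⟩ := hodx
    have hx2 : (x ^ 2) ^ (l + 1) = x := by
      rw [← pow_mul, show 2 * (l + 1) = orderOf x + 1 by omega, pow_succ, pow_orderOf_eq_one,
        one_mul]
    exact (hx2 ▸ h2'.pow_left (l + 1) : Commute x h).eq

end General

variable {G : Type u} {Ω : Type v} [Group G] [Finite G] [MulAction G Ω] {a : Ω} {t : G}
  {Q : Subgroup G}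

/-- The image of a nontrivial element of `W` in `Σ` has no fixed point on the circle. -/
theorem sig_image_free (hC : Ctx G Ω a t Q) (hU : IsUni G a Q) {s r : G}
    (hl : IsLink G a t Q s r) (hr : r ∈ zGrp G a) {w x : G} (hw : w ∈ wGrp G a t) (hw1 : w ≠ 1)
    (hx : x ∈ sigGrp G a t) (hxa : x • a = a) {p : Ω} (hp : p ∉ line0 G a t)
    (hxp : x • p = w • p) : False := by
  classical
  obtain ⟨z, hz, k, hk, rfl⟩ := hC.sig_stabilizer hl hr hx hxa
  have hS := hC.setup
  have hpa : p ≠ a := fun e => hp (e ▸ Ctx.a_mem_line0 _ _)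
  obtain ⟨y, hy, rfl⟩ := exists_Q_smul hS hpa
  have hyZ : y ∉ zGrp G a := fun h => hp (Ctx.mem_line0.2 (Or.inr ⟨y, h, rfl⟩))
  obtain ⟨hwD, hwz⟩ := hC.mem_wGrp.1 hw
  have hkD := Ctx.kGrp_le G a t hk
  set d := w⁻¹ * k with hd
  have hdD : d ∈ twoPt G a t := mul_mem (inv_mem hwD) hkD
  have hdy : d * y * d⁻¹ ∈ Q := conj_mem_Q hS (twoPt_le hdD) hy
  -- `z (d y d⁻¹) = y`
  have hkey : z * (d * y * d⁻¹) = y := by
    refine Q_smul_inj hS (mul_mem (hC.zGrp_le hz) hdy) hy (t_smul_ne hS) ?_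
    have e : w⁻¹ • (z * k) • y • t • a = y • t • a := by rw [hxp, inv_smul_smul]
    have hwzi : w⁻¹ * z = z * w⁻¹ := ((hwz z hz).inv_left).eq
    rw [← mul_smul, ← mul_assoc, hwzi, mul_assoc, ← hd, ← mul_smul] at e
    rw [show z * (d * y * d⁻¹) = z * d * y * d⁻¹ by group, mul_smul,
      (mem_twoPt.1 (inv_mem hdD)).2]
    exact e
  by_cases hk1 : k = 1
  · -- `w²` centralises `y`
    subst hk1
    rw [mul_one] at hd
    have hcy := hC.zGrp_central hz hy
    have h1 : w * y * w⁻¹ = z * y := by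
      calc w * y * w⁻¹ = w * (z * (d * y * d⁻¹)) * w⁻¹ := by rw [hkey]
        _ = (w * z) * w⁻¹ * y := by rw [hd]; group
        _ = z * y := by rw [(hwz z hz).eq, mul_inv_cancel_right]
    have h2 : Commute (w ^ 2) y := by
      rw [pow_two]
      refine mul_inv_eq_iff_eq_mul.1 ?_
      calc w * w * y * (w * w)⁻¹ = w * (w * y * w⁻¹) * w⁻¹ := by group
        _ = (w * z) * y * w⁻¹ := by rw [h1]; group
        _ = z * (w * y * w⁻¹) := by rw [(hwz z hz).eq]; group
        _ = y := by rw [h1, ← mul_assoc, hC.zGrp_sq hz, one_mul]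
    obtain ⟨l, hl⟩ := odd_orderOf_of_mem hS.odd_card hwD
    have hw2 : (w ^ 2) ^ (l + 1) = w := by
      rw [← pow_mul, show 2 * (l + 1) = orderOf w + 1 by omega, pow_succ, pow_orderOf_eq_one,
        one_mul]
    exact hyZ (cent_w hC hU hw hw1 hy (hw2 ▸ h2.pow_left (l + 1)))
  -- correct `y` by an element of `Z` to a fixed point of `d`
  have hkc : ∀ {v : G}, v ∈ zGrp G a → k * v * k⁻¹ ∈ zGrp G a := fun hv =>
    hC.conj_mem_zGrp (twoPt_le hkD) hv
  let φ : zGrp G a → zGrp G a := fun v => ⟨v * (k * v * k⁻¹), mul_mem v.2 (hkc v.2)⟩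
  have hφ : Function.Injective φ := by
    rintro ⟨v, hv⟩ ⟨v', hv'⟩ e
    have e' : v * (k * v * k⁻¹) = v' * (k * v' * k⁻¹) := congrArg Subtype.val e
    have hu : v' * v ∈ zGrp G a := mul_mem hv' hv
    have h1 : Commute k (v' * v) := by
      have i1 : k * v' * k⁻¹ * (k * v * k⁻¹) = v' * v := by
        calc k * v' * k⁻¹ * (k * v * k⁻¹)
            = (v' * v') * (k * v' * k⁻¹ * (k * v * k⁻¹)) := by rw [hC.zGrp_sq hv', one_mul]
          _ = v' * (v' * (k * v' * k⁻¹)) * (k * v * k⁻¹) := by simp only [mul_assoc]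
          _ = v' * v * (k * v * k⁻¹ * (k * v * k⁻¹)) := by rw [← e']; simp only [mul_assoc]
          _ = v' * v := by rw [hC.zGrp_sq (hkc hv), mul_one]
      refine mul_inv_eq_iff_eq_mul.1 ?_
      calc k * (v' * v) * k⁻¹ = k * v' * k⁻¹ * (k * v * k⁻¹) := by group
        _ = v' * v := i1
    have h2 := hC.kGrp_fpf hk hk1 (hC.zGrp_le hu) h1
    exact Subtype.ext ((eq_inv_of_mul_eq_one_right h2).trans (hC.zGrp_inv hv'))
  obtain ⟨⟨v, hv⟩, hv'⟩ := Finite.injective_iff_surjective.1 hφ ⟨z, hz⟩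
  have hzv : v * (k * v * k⁻¹) = z := congrArg Subtype.val hv'
  set y' := y * v with hy'
  have hy'Q : y' ∈ Q := mul_mem hy (hC.zGrp_le hv)
  have hy'Z : y' ∉ zGrp G a := fun h => hyZ (by
    simpa [hy'] using mul_mem h (inv_mem hv))
  have hfixy : d * y' * d⁻¹ = y' := by
    have hdv : d * v * d⁻¹ = k * v * k⁻¹ := by
      calc d * v * d⁻¹ = w⁻¹ * (k * v * k⁻¹) * w := by rw [hd]; group
        _ = k * v * k⁻¹ := by rw [((hwz _ (hkc hv)).inv_left).eq, inv_mul_cancel_right]
    have hdy' : d * y * d⁻¹ = z * y := by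
      calc d * y * d⁻¹ = (z * z) * (d * y * d⁻¹) := by rw [hC.zGrp_sq hz, one_mul]
        _ = z * y := by rw [mul_assoc, hkey]
    calc d * y' * d⁻¹ = (d * y * d⁻¹) * (d * v * d⁻¹) := by rw [hy']; group
      _ = y * z * (k * v * k⁻¹) := by rw [hdy', hdv, (hC.zGrp_central hz hy).eq]
      _ = y * v * (k * v * k⁻¹ * (k * v * k⁻¹)) := by rw [← hzv]; simp only [mul_assoc]
      _ = y' := by rw [hC.zGrp_sq (hkc hv), mul_one, hy']
  have hca : y' • t • a ≠ a := Q_smul_ne hS hy'Q (t_smul_ne hS)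
  have hcb : y' • t • a ≠ t • a := fun e => hy'Z (by
    have := Q_smul_inj hS hy'Q Q.one_mem (t_smul_ne hS) (by rw [one_smul]; exact e)
    rw [this]; exact one_mem _)
  obtain ⟨c, hc, hct⟩ := S1126.result hS {d} (by rintro x rfl; exact hdD)
    ⟨a, t • a, y' • t • a, (t_smul_ne hS).symm, hca.symm, hcb.symm, fun x hx => by
      rw [Set.mem_singleton_iff.1 hx]
      refine ⟨(mem_twoPt.1 hdD).1, (mem_twoPt.1 hdD).2, ?_⟩
      rw [← mul_smul, show d * y' = y' * d from mul_inv_eq_iff_eq_mul.1 hfixy, mul_smul,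
        (mem_twoPt.1 hdD).2]⟩
  have hcD : c ∈ twoPt G a t := hc
  have hdV : c * d * c⁻¹ ∈ vGrp G a t :=
    Ctx.mem_vGrp.2 ⟨mul_mem (mul_mem hcD hdD) (inv_mem hcD), (hct d rfl).symm⟩
  have hwV := Ctx.wGrp_le G a t (hC.conj_mem_wGrp hcD hw)
  have hkV : c * k * c⁻¹ ∈ vGrp G a t := by
    have := mul_mem hwV hdV
    rwa [show c * w * c⁻¹ * (c * d * c⁻¹) = c * k * c⁻¹ by rw [hd]; group] at this
  exact hk1 (conj_eq_one_iff.1 (hC.kv_disjoint (hC.conj_mem_kGrp hcD hk) hkV))

/-- `Σ` induces `SL(2, q)` on the circle. -/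
theorem sigGrp_equiv (hC : Ctx G Ω a t Q) {s r : G} (hl : IsLink G a t Q s r)
    (hr : r ∈ zGrp G a) :
    ∃ (F : Type) (_ : Field F) (_ : Fintype F), CharP F 2 ∧ Fintype.card F = qq G a ∧
      Nonempty (sigGrp G a t ≃* Matrix.SpecialLinearGroup (Fin 2) F) := by
  classical
  have hS := hC.setup
  haveI := finite_points hS
  have hmem : ∀ (g : sigGrp G a t) (c : line0 G a t), (g : G) • (c : Ω) ∈ line0 G a t := fun g c => by
    have := Set.smul_mem_smul_set (a := (g : G)) c.2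
    rwa [hC.smul_line0 hl hr g.2] at this
  letI : MulAction (sigGrp G a t) (line0 G a t) :=
    { smul := fun g c => ⟨(g : G) • (c : Ω), hmem g c⟩
      one_smul := fun c => Subtype.ext (one_smul G (c : Ω))
      mul_smul := fun g g' c => Subtype.ext (mul_smul (g : G) (g' : G) (c : Ω)) }
  have hsm : ∀ (g : sigGrp G a t) (c : line0 G a t), ((g • c : line0 G a t) : Ω) = (g : G) • (c : Ω) :=
    fun _ _ => rfl
  set A0 : line0 G a t := ⟨a, Ctx.a_mem_line0 _ _⟩ with hA0
  set B0 : line0 G a t := ⟨t • a, Ctx.b_mem_line0 _ _⟩ with hB0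
  have hAB : A0 ≠ B0 := fun e => t_smul_ne hS (congrArg Subtype.val e).symm
  have hZ : ∀ z ∈ zGrp G a, z ∈ sigGrp G a t := fun z hz => mem_sup_left hz
  have htS : t ∈ sigGrp G a t := mem_sup_right (subset_closure rfl)
  have hK : ∀ k ∈ kGrp G a t, k ∈ sigGrp G a t := fun k hk => by
    rw [← SetLike.mem_coe, hC.coe_sigGrp hl hr]
    exact ⟨1, one_mem _, k, hk, Or.inl (one_mul k).symm⟩
  -- two points to `A0, B0`
  have hpair : ∀ x y : line0 G a t, x ≠ y → ∃ g : sigGrp G a t, g • x = A0 ∧ g • y = B0 := by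
    intro x y hxy
    obtain ⟨g1, hg1⟩ : ∃ g : sigGrp G a t, g • x = A0 := by
      rcases Ctx.mem_line0.1 x.2 with e | ⟨z, hz, e⟩
      · exact ⟨1, Subtype.ext (by rw [hsm]; simpa [hA0] using e)⟩
      · refine ⟨⟨t * z⁻¹, mul_mem htS (inv_mem (hZ z hz))⟩, Subtype.ext ?_⟩
        rw [hsm, ← e]
        show (t * z⁻¹) • z • t • a = a
        rw [mul_smul, inv_smul_smul, t_smul_smul hS]
    rcases Ctx.mem_line0.1 (g1 • y).2 with e | ⟨z, hz, e⟩
    · exact absurd (MulAction.injective g1 (hg1.trans (Subtype.ext e.symm))) hxy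
    refine ⟨⟨z⁻¹, inv_mem (hZ z hz)⟩ * g1, ?_, ?_⟩
    · rw [mul_smul, hg1]
      exact Subtype.ext (smul_a_of_mem_Q hS (inv_mem (hC.zGrp_le hz)))
    · rw [mul_smul]
      exact Subtype.ext (by rw [hsm, ← e, inv_smul_smul, hB0])
  have hthird : ∀ c : line0 G a t, c ≠ A0 → c ≠ B0 → ∃ z ∈ zGrp G a, z ≠ 1 ∧ z • t • a = (c : Ω) := by
    intro c hca hcb
    rcases Ctx.mem_line0.1 c.2 with e | ⟨z, hz, e⟩
    · exact absurd (Subtype.ext e) hca
    · exact ⟨z, hz, fun h => hcb (Subtype.ext (by rw [← e, h, one_smul, hB0])), e⟩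
  have C : Zassenhaus.ZCtx (sigGrp G a t) (line0 G a t) := by
    refine ⟨fun {x y u v} hxy huv => ?_, fun g x y c hxy hyc hxc hgx hgy hgc => ?_⟩
    · obtain ⟨g, hg, hg'⟩ := hpair x y hxy
      obtain ⟨k, hk, hk'⟩ := hpair u v huv
      exact ⟨k⁻¹ * g, by rw [mul_smul, hg, ← hk, inv_smul_smul],
        by rw [mul_smul, hg', ← hk', inv_smul_smul]⟩
    · obtain ⟨m, hmx, hmy⟩ := hpair x y hxy
      have hconj : ∀ d : line0 G a t, g • d = d → (m * g * m⁻¹) • m • d = m • d := fun d hd => by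
        rw [mul_smul, mul_smul, inv_smul_smul, hd]
      have ha : (m * g * m⁻¹) • A0 = A0 := hmx ▸ hconj x hgx
      have hb : (m * g * m⁻¹) • B0 = B0 := hmy ▸ hconj y hgy
      obtain ⟨z, hz, hz1, e⟩ := hthird (m • c)
        (fun e => hxc (MulAction.injective m (hmx.trans e.symm)))
        (fun e => hyc (MulAction.injective m (hmy.trans e.symm)))
      set k : G := ((m * g * m⁻¹ : sigGrp G a t) : G) with hk
      have hkD : k ∈ twoPt G a t := mem_twoPt.2 ⟨congrArg Subtype.val ha, congrArg Subtype.val hb⟩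
      have hkK := hC.sig_twoPt hl hr (m * g * m⁻¹).2 hkD
      have h3 : k • z • t • a = z • t • a := e.symm ▸ congrArg Subtype.val (hconj c hgc)
      by_contra hg1
      have hk1 : k ≠ 1 := fun e => hg1 (conj_eq_one_iff.1 (Subtype.ext e))
      refine hz1 (hC.kGrp_fpf hkK hk1 (hC.zGrp_le hz) (mul_inv_eq_iff_eq_mul.1
        (Q_smul_inj hS (conj_mem_Q hS (twoPt_le hkD) (hC.zGrp_le hz)) (hC.zGrp_le hz)
          (t_smul_ne hS) ?_)))
      rw [mul_smul, mul_smul, (mem_twoPt.1 (inv_mem hkD)).2, h3]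
  have hmap : ∀ {x y z x' y' z' : line0 G a t}, x ≠ y → x ≠ z → y ≠ z → x' ≠ y' → x' ≠ z' →
      y' ≠ z' → ∃ g : sigGrp G a t, g • x = x' ∧ g • y = y' ∧ g • z = z' := by
    intro x y z x' y' z' h1 h2 h3 h1' h2' h3'
    obtain ⟨g, hgx, hgy⟩ := hpair x y h1
    obtain ⟨g', hgx', hgy'⟩ := hpair x' y' h1'
    obtain ⟨u, hu, hu1, e⟩ := hthird (g • z)
      (fun e => h2 (MulAction.injective g (hgx.trans e.symm)))
      (fun e => h3 (MulAction.injective g (hgy.trans e.symm)))
    obtain ⟨u', hu', hu1', e'⟩ := hthird (g' • z')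
      (fun e => h2' (MulAction.injective g' (hgx'.trans e.symm)))
      (fun e => h3' (MulAction.injective g' (hgy'.trans e.symm)))
    obtain ⟨k, hk, ek⟩ := hC.exists_kGrp_conj hu hu1 hu' hu1'
    have hkD := mem_twoPt.1 (Ctx.kGrp_le G a t hk)
    refine ⟨g'⁻¹ * ⟨k, hK k hk⟩ * g, ?_, ?_, ?_⟩ <;> rw [mul_smul, mul_smul, inv_smul_eq_iff]
    · rw [hgx, hgx']; exact Subtype.ext hkD.1
    · rw [hgy, hgy']; exact Subtype.ext hkD.2
    · refine Subtype.ext ?_
      rw [hsm, ← e, ← e', ← ek]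
      show k • u • t • a = _
      rw [mul_smul, mul_smul,
        (mem_twoPt.1 (inv_mem (Ctx.kGrp_le G a t hk))).2]
  have hcard : Nat.card (line0 G a t) = qq G a + 1 := by
    rw [Nat.card_coe_set_eq, hC.ncard_line0]
  obtain ⟨f, hf, hqf⟩ := hC.exists_qq_pow
  obtain ⟨f', F, iF, iFf, -, hF, hΩ, he, -⟩ := C.identify_even
    (by rw [hcard]; have := hC.four_le_qq; omega)
    (by rw [hcard, hqf]; exact (Nat.even_pow.2 ⟨even_two, by omega⟩).add_one) hmap
  exact ⟨F, iF, iFf, charP_of_card_eq_prime_pow hF, by omega, he⟩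

/-- `W` and the torus through a point off the circle. -/
theorem torus_core (hC : Ctx G Ω a t Q) (hU : IsUni G a Q) (hW : wGrp G a t ≠ ⊥)
    {p : Ω} (hp : p ∉ line0 G a t) :
    IsCyclic (wGrp G a t) ∧ Nat.card (wGrp G a t) ∣ qq G a + 1 ∧
      ∃ T : Subgroup G, T ≤ sigGrp G a t ∧ IsCyclic T ∧ Nat.card T = qq G a + 1 ∧
        ∀ w ∈ wGrp G a t, ∃ g ∈ T, g • p = w • p := by
  classical
  haveI := finite_points hC.setup
  have hfree := sig_free hC hU hW
  have htrans := sig_trans hC hU hW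
  obtain ⟨s, r, hl⟩ := hC.exists_link
  have hr := link_mem hC hU hW hl
  have hcomm : ∀ g ∈ sigGrp G a t, ∀ w ∈ wGrp G a t, g * w = w * g := fun g hg w hw =>
    (sig_comm hC g hg w hw).eq
  have hwp : ∀ w ∈ wGrp G a t, w • p ∉ line0 G a t := fun w hw h => hp (by
    rwa [show w • p = p from MulAction.injective w (wGrp_fix_line0 hC hw h)] at h)
  choose σ hσS hσp using fun w : wGrp G a t => htrans p ((w : G) • p) hp (hwp w w.2)
  have hinj : ∀ g ∈ sigGrp G a t, ∀ g' ∈ sigGrp G a t, g • p = g' • p → g = g' :=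
    fun g hg g' hg' e => (inv_mul_eq_one.1 (hfree _ (mul_mem (inv_mem hg') hg) p hp
      (by rw [mul_smul, e, inv_smul_smul]))).symm
  have hσmul : ∀ w w' : wGrp G a t, σ (w * w') = σ w' * σ w := fun w w' => by
    refine hinj _ (hσS _) _ (mul_mem (hσS _) (hσS _)) ?_
    calc σ (w * w') • p = ((w : G) * (w' : G)) • p := hσp (w * w')
      _ = (w : G) • σ w' • p := by rw [mul_smul, hσp]
      _ = σ w' • (w : G) • p := by rw [smul_smul, ← hcomm _ (hσS _) _ w.2, mul_smul]
      _ = (σ w' * σ w) • p := by rw [← hσp w, mul_smul]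
  let τ : wGrp G a t →* sigGrp G a t := MonoidHom.mk'
    (fun w => ⟨(σ w)⁻¹, inv_mem (hσS w)⟩)
    (fun w w' => Subtype.ext (show (σ (w * w'))⁻¹ = (σ w)⁻¹ * (σ w')⁻¹ by
      rw [hσmul, mul_inv_rev]))
  have hτ : Function.Injective τ := by
    refine (injective_iff_map_eq_one τ).2 fun w hw => ?_
    have h1 : σ w = 1 := inv_eq_one.1 (congrArg Subtype.val hw)
    by_contra hw1
    refine hp (fix_wGrp_subset hC hU w.2 (fun e => hw1 (Subtype.ext e)) ?_)
    have := hσp w
    rw [h1, one_smul] at this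
    exact this.symm
  have hAne : τ.range ≠ ⊥ := fun e => hW <| eq_bot_iff.2 fun w hw => by
    have h1 : τ ⟨w, hw⟩ = 1 := mem_bot.1 (e ▸ MonoidHom.mem_range.2 ⟨_, rfl⟩)
    exact congrArg Subtype.val ((injective_iff_map_eq_one τ).1 hτ _ h1)
  -- semiregularity on the circle
  have hsemi : ∀ (w : wGrp G a t) (c : Ω), c ∈ line0 G a t → σ w • c = c → w = 1 := by
    intro w c hc hwc
    by_contra hw1
    obtain ⟨g, hg, hgc⟩ : ∃ g ∈ sigGrp G a t, g • c = a := by
      rcases Ctx.mem_line0.1 hc with rfl | ⟨z, hz, rfl⟩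
      · exact ⟨1, one_mem _, one_smul _ _⟩
      · refine ⟨t * z⁻¹, mul_mem (mem_sup_right (subset_closure rfl))
          (inv_mem (mem_sup_left hz)), ?_⟩
        rw [mul_smul, inv_smul_smul, t_smul_smul hC.setup]
    have hgp : g • p ∉ line0 G a t := fun h => hp (by
      rw [← inv_smul_smul g p, ← hC.smul_line0 hl hr (inv_mem hg)]
      exact Set.smul_mem_smul_set h)
    refine sig_image_free hC hU hl hr w.2 (fun e => hw1 (Subtype.ext e))
      (mul_mem (mul_mem hg (hσS w)) (inv_mem hg)) ?_ hgp ?_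
    · rw [mul_smul, mul_smul, ← hgc, inv_smul_smul, hwc]
    · rw [mul_smul, mul_smul, inv_smul_smul, hσp, smul_smul g, hcomm g hg w w.2, mul_smul]
  have hAcard : Nat.card τ.range = Nat.card (wGrp G a t) :=
    (Nat.card_congr (MonoidHom.ofInjective hτ).toEquiv).symm
  have hdvd : Nat.card (wGrp G a t) ∣ qq G a + 1 := by
    have hmem : ∀ (w : wGrp G a t) (c : line0 G a t),
        ((τ w : sigGrp G a t) : G) • (c : Ω) ∈ line0 G a t := fun w c => by
      have := Set.smul_mem_smul_set (a := ((τ w : sigGrp G a t) : G)) c.2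
      rwa [hC.smul_line0 hl hr (τ w).2] at this
    letI : MulAction (wGrp G a t) (line0 G a t) :=
      { smul := fun w c => ⟨((τ w : sigGrp G a t) : G) • (c : Ω), hmem w c⟩
        one_smul := fun c => Subtype.ext (show ((τ 1 : sigGrp G a t) : G) • (c : Ω) = c by
          rw [map_one, OneMemClass.coe_one, one_smul])
        mul_smul := fun w w' c => Subtype.ext
          (show ((τ (w * w') : sigGrp G a t) : G) • (c : Ω) = _ • _ • (c : Ω) by
            rw [map_mul, Subgroup.coe_mul, mul_smul]) }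
    rw [← hC.ncard_line0, ← Nat.card_coe_set_eq]
    refine card_dvd_of_free fun w c e => hsemi w c c.2 ?_
    have e' : (σ w)⁻¹ • (c : Ω) = c := congrArg Subtype.val e
    exact (inv_smul_eq_iff.1 e').symm
  obtain ⟨F, iF, iFf, hchar, hF, ⟨e⟩⟩ := sigGrp_equiv hC hl hr
  obtain ⟨f, hf, hqf⟩ := hC.exists_qq_pow
  obtain ⟨T, hAT, hTc, hTcard⟩ := exists_torus_sl2 (τ.range.map e.toMonoidHom)
    ((Subgroup.map_eq_bot_iff_of_injective _ e.injective).not.2 hAne)
    (by rw [hF, hqf]; exact Nat.even_pow.2 ⟨even_two, by omega⟩)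
    (by rw [Subgroup.card_map_of_injective e.injective, hAcard, hF]; exact hdvd)
  haveI := hTc
  let ψ : T →* G := ((sigGrp G a t).subtype.comp e.symm.toMonoidHom).comp T.subtype
  have hψ : Function.Injective ψ :=
    Subtype.val_injective.comp (e.symm.injective.comp Subtype.val_injective)
  have hτT : ∀ w : wGrp G a t, e (τ w) ∈ T := fun w => hAT ⟨τ w, ⟨w, rfl⟩, rfl⟩
  refine ⟨isCyclic_of_injective ((e.toMonoidHom.comp τ).codRestrict T hτT)
    (fun w w' h => hτ (e.injective (congrArg Subtype.val h))), hdvd, ψ.range, ?_,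
    isCyclic_of_surjective ψ.rangeRestrict ψ.rangeRestrict_surjective, ?_, ?_⟩
  · rintro _ ⟨x, rfl⟩
    exact (e.symm (x : Matrix.SpecialLinearGroup (Fin 2) F)).2
  · rw [← hF, ← hTcard]
    exact (Nat.card_congr (MonoidHom.ofInjective hψ).toEquiv).symm
  · intro w hw
    refine ⟨σ ⟨w, hw⟩, ?_, hσp _⟩
    have : (σ ⟨w, hw⟩)⁻¹ ∈ ψ.range := ⟨⟨e (τ ⟨w, hw⟩), hτT _⟩,
      show ((e.symm (e (τ ⟨w, hw⟩)) : sigGrp G a t) : G) = _ by rw [e.symm_apply_apply]; rfl⟩
    simpa using inv_mem this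

theorem exists_off_line0 (hC : Ctx G Ω a t Q) (hU : IsUni G a Q) : ∃ p : Ω, p ∉ line0 G a t := by
  haveI := finite_points hC.setup
  by_contra h
  push Not at h
  have hall : line0 G a t = Set.univ := Set.eq_univ_of_forall h
  have h1 := hC.ncard_line0
  rw [hall, Set.ncard_univ, card_points hC.setup, hU.card] at h1
  have hq := hC.four_le_qq
  have : qq G a ^ 3 = qq G a * (qq G a * qq G a) := by ring
  nlinarith

/-- `W` is cyclic. -/
theorem w_cyclic (hC : Ctx G Ω a t Q) (hU : IsUni G a Q) (hW : wGrp G a t ≠ ⊥) :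
    IsCyclic (wGrp G a t) :=
  (torus_core hC hU hW (exists_off_line0 hC hU).choose_spec).1

/-- `|W|` divides `q + 1`. -/
theorem w_dvd (hC : Ctx G Ω a t Q) (hU : IsUni G a Q) (hW : wGrp G a t ≠ ⊥) :
    Nat.card (wGrp G a t) ∣ qq G a + 1 :=
  (torus_core hC hU hW (exists_off_line0 hC hU).choose_spec).2.1

/-- A cyclic torus of order `q + 1` through a point off the circle. -/
theorem exists_torus (hC : Ctx G Ω a t Q) (hU : IsUni G a Q) (hW : wGrp G a t ≠ ⊥) :
    ∀ p : Ω, p ∉ line0 G a t → ∃ T : Subgroup G, T ≤ sigGrp G a t ∧ IsCyclic T ∧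
      Nat.card T = qq G a + 1 ∧ ∀ w ∈ wGrp G a t, ∃ g ∈ T, g • p = w • p :=
  fun _ hp => (torus_core hC hU hW hp).2.2

end UniLines

end Cfsg.Agent.RankOneClass
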