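import Cfsg.Agent.RankOneClass.Lines.Regular
import Cfsg.Agent.RankOneClass.Lines.Torus
import Cfsg.Agent.RankOneClass.Lines.SmallApply
import Cfsg.Agent.RankOneClass.Lines.NoW
import Cfsg.Agent.RankOneClass.Lines.Small

/-!
Stage C: `LinesStmt`.
-/

set_option autoImplicit false

open Subgroup MulAction
open scoped Pointwise

namespace Cfsg.Agent.RankOneClass

open Cfsg.Agent.RankOne

universe u v

/-- Stage C: the lines of the unital. -/
theorem linesStmt {G : Type u} {Ω : Type v} [Group G] [Finite G] [MulAction G Ω] (a : Ω) (t : G)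
    (Q : Subgroup G) : LinesStmt.{u, v} G a t Q := by
  intro hC IH hU
  have hW := UniLines.wGrp_ne_bot hC IH hU
  obtain ⟨s, r, h⟩ := hC.exists_link
  have hr := UniLines.link_mem hC hU hW h
  have h3 : 3 ≤ Nat.card (wGrp G a t) := by
    have h1 : Nat.card (wGrp G a t) ≠ 1 := fun e => hW (Subgroup.card_eq_one.1 e)
    obtain ⟨l, hl⟩ : Odd (Nat.card (wGrp G a t)) :=
      hC.odd_vGrp.of_dvd_nat (card_dvd_of_le (Ctx.wGrp_le G a t))
    omega
  exact
    { w_cyclic := UniLines.w_cyclic hC hU hW
      w_dvd := UniLines.w_dvd hC hU hW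
      w_three := h3
      cent_w := fun w hw hw1 x hx hxw => UniLines.cent_w hC hU hw hw1 hx hxw
      link_mem := fun s' r' h' => UniLines.link_mem hC hU hW h'
      sig_card := hC.card_sigGrp h hr
      sig_comm := UniLines.sig_comm hC
      sig_line := fun g hg => hC.smul_line0 h hr hg
      sig_faithful := UniLines.sig_faithful hC hU hW
      sig_free := UniLines.sig_free hC hU hW
      sig_trans := UniLines.sig_trans hC hU hW
      torus := fun p hp => by
        obtain ⟨T, hT, hTc, hTcard, hTw⟩ := UniLines.exists_torus hC hU hW p hp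
        refine ⟨T, hT, hTc, hTcard, hTw, ?_⟩
        rcases UniLines.line_or_small hC IH hU (UniLines.w_cyclic hC hU hW) h3
          (UniLines.sig_comm hC) (UniLines.sig_faithful hC hU hW) (UniLines.sig_free hC hU hW)
          hp hT hTc hTcard hTw with hl | ⟨v, hv⟩
        · exact hl
        · refine (UniLines.no_smallData hC hU
            (fun H _ _ Ψ _ b t' R hC' h1 h2 h3 h4 T h5 h6 h7 =>
              UniLines.no_big hC' h1 h2 h3 h4 T h5 h6 h7) hv).elim }

end Cfsg.Agent.RankOneClass
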