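import Cfsg.Agent.RankOneClass.Induct
import Cfsg.Agent.RankOneClass.Sigma
import Cfsg.Agent.RankOneClass.Lines.CentW
import Cfsg.Agent.S1126

/-!
Stage C: the orbit of a torus through a point off the circle is a line, up to two small configurations.
-/

set_option autoImplicit false

open Subgroup MulAction
open scoped Pointwise

namespace Cfsg.Agent.RankOneClass

open Cfsg.Agent.RankOne

universe u v

variable {G : Type u} {Ω : Type v} [Group G] [Finite G] [MulAction G Ω] {a : Ω} {t : G}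
  {Q : Subgroup G}

namespace UniLines

/-- The configuration left over by `line_or_small`. -/
structure SmallData (G : Type u) {Ω : Type v} [Group G] [MulAction G Ω] (a : Ω) (t : G)
    (Q : Subgroup G) (v : G) : Prop where
  mem : v ∈ vGrp G a t
  not_mem : v ∉ wGrp G a t
  order : orderOf v = 3
  card_W : Nat.card (wGrp G a t) = 3
  card_CQ : Nat.card ↥(Q ⊓ centralizer {v}) = qq G a
  cases : (qq G a = 8 ∧ Nat.card ↥(zGrp G a ⊓ centralizer {v}) = 2) ∨
    (qq G a = 512 ∧ Nat.card ↥(zGrp G a ⊓ centralizer {v}) = 8)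
  torus : ∃ T : Subgroup (Img Ω v), IsCyclic T ∧ Nat.card T = qq G a + 1 ∧
    ∀ c ∈ T, ∀ x : fixAct Ω v, c • x = x → c = 1

omit [Finite G] in
theorem wGrp_fix_line0 (hC : Ctx G Ω a t Q) [Finite G] {w : G} (hw : w ∈ wGrp G a t) {p : Ω}
    (hp : p ∈ line0 G a t) : w • p = p := by
  obtain ⟨hwD, hwz⟩ := hC.mem_wGrp.1 hw
  rcases Ctx.mem_line0.1 hp with rfl | ⟨z, hz, rfl⟩
  · exact (mem_twoPt.1 hwD).1
  · rw [← mul_smul, (hwz z hz).eq, mul_smul, (mem_twoPt.1 hwD).2]

theorem fix_wGrp_subset (hC : Ctx G Ω a t Q) (hU : IsUni G a Q) {w : G} (hw : w ∈ wGrp G a t)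
    (hw1 : w ≠ 1) {p : Ω} (hp : w • p = p) : p ∈ line0 G a t := by
  by_cases hpa : p = a
  · rw [hpa]; exact Ctx.a_mem_line0 _ _
  obtain ⟨x, hx, rfl⟩ := exists_Q_smul hC.setup hpa
  have hwD := (hC.mem_wGrp.1 hw).1
  refine Ctx.mem_line0.2 (Or.inr ⟨x, cent_w hC hU hw hw1 hx ?_, rfl⟩)
  refine (mul_inv_eq_iff_eq_mul.1 (Q_smul_inj hC.setup (conj_mem_Q hC.setup (twoPt_le hwD) hx) hx
    (t_smul_ne hC.setup) ?_) : w * x = x * w)
  rw [mul_smul, mul_smul, (mem_twoPt.1 (inv_mem hwD)).2, hp]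

/-- An element of `V` fixes at most `|C_Q(v)| + 1` points. -/
theorem ncard_fixed_le (hC : Ctx G Ω a t Q) {v : G} (hv : v ∈ vGrp G a t) :
    (fixedBy Ω v).ncard ≤ Nat.card ↥(Q ⊓ centralizer ({v} : Set G)) + 1 := by
  haveI := finite_points hC.setup
  have hsub : fixedBy Ω v ⊆ insert a
      ((fun x => x • (t • a)) '' (↑(Q ⊓ centralizer ({v} : Set G)) : Set G)) := by
    intro c hc
    by_cases hca : c = a
    · exact Or.inl hca
    obtain ⟨x, hx, rfl⟩ := exists_Q_smul hC.setup hca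
    have hvD := Ctx.vGrp_le G a t hv
    refine Or.inr ⟨x, ⟨hx, mem_centralizer_singleton_iff.2 ?_⟩, rfl⟩
    refine (mul_inv_eq_iff_eq_mul.1 (Q_smul_inj hC.setup (conj_mem_Q hC.setup (twoPt_le hvD) hx) hx
      (t_smul_ne hC.setup) ?_) : v * x = x * v).symm
    rw [mul_smul, mul_smul, (mem_twoPt.1 (inv_mem hvD)).2]
    exact hc
  refine (Set.ncard_le_ncard hsub).trans ((Set.ncard_insert_le _ _).trans (Nat.add_le_add_right ?_ 1))
  exact (Set.ncard_image_le (Set.toFinite _)).trans (le_of_eq (Nat.card_coe_set_eq _).symm)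

theorem line_or_small (hC : Ctx G Ω a t Q) (IH : IndHyp.{u, v} (Nat.card G)) (hU : IsUni G a Q)
    (hWc : IsCyclic (wGrp G a t)) (hW3 : 3 ≤ Nat.card (wGrp G a t))
    (hcomm : ∀ g ∈ sigGrp G a t, ∀ w ∈ wGrp G a t, Commute g w)
    (hfaith : ∀ g ∈ sigGrp G a t, (∀ p ∈ line0 G a t, g • p = p) → g = 1)
    (hfree : ∀ g ∈ sigGrp G a t, ∀ p : Ω, p ∉ line0 G a t → g • p = p → g = 1)
    {p : Ω} (hp : p ∉ line0 G a t) {T : Subgroup G} (hT : T ≤ sigGrp G a t) (hTc : IsCyclic T)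
    (hTcard : Nat.card T = qq G a + 1)
    (hTw : ∀ w ∈ wGrp G a t, ∃ g ∈ T, g • p = w • p) :
    (∃ g : G, g • line0 G a t = (fun c => c • p) '' (T : Set G)) ∨
      ∃ v : G, SmallData G a t Q v := by
  classical
  have hS := hC.setup
  haveI := finite_points hS
  set S : Set Ω := (fun c => c • p) '' (T : Set G) with hSdef
  have hTab : ∀ c ∈ T, ∀ c' ∈ T, Commute c c' := fun c hc c' hc' => by
    obtain ⟨g, hg⟩ := hTc.exists_generator
    obtain ⟨i, hi⟩ := mem_zpowers_iff.1 (hg ⟨c, hc⟩)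
    obtain ⟨j, hj⟩ := mem_zpowers_iff.1 (hg ⟨c', hc'⟩)
    have := congrArg Subtype.val
      ((hi ▸ hj ▸ (Commute.refl g).zpow_zpow i j : Commute (⟨c, hc⟩ : T) ⟨c', hc'⟩).eq)
    exact this
  have hinj : Set.InjOn (fun c : G => c • p) (T : Set G) := fun c hc c' hc' e => by
    have : c'⁻¹ * c = 1 := hfree _ (hT (mul_mem (inv_mem hc') hc)) p hp (by
      rw [mul_smul, show c • p = c' • p from e, inv_smul_smul])
    exact (inv_mul_eq_one.1 this).symm
  have hScard : S.ncard = qq G a + 1 := by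
    rw [hSdef, Set.ncard_image_of_injOn hinj, ← Nat.card_coe_set_eq]
    exact hTcard
  -- the element `x₀ = σ⁻¹ w₀` fixes `S` pointwise and has order `|W|`
  obtain ⟨w0, hw0⟩ := IsCyclic.exists_ofOrder_eq_natCard (α := wGrp G a t)
  obtain ⟨σ, hσ, hσp⟩ := hTw w0 w0.2
  set m := Nat.card (wGrp G a t) with hm
  have hcσ : Commute σ (w0 : G) := hcomm σ (hT hσ) w0 w0.2
  set x0 := σ⁻¹ * (w0 : G) with hx0
  have hx0S : ∀ c ∈ S, x0 • c = c := by
    rintro _ ⟨c, hc, rfl⟩
    show x0 • c • p = c • p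
    rw [← mul_smul, hx0, mul_assoc, ← (hcomm c (hT hc) w0 w0.2).eq, ← mul_assoc,
      ((hTab σ hσ c hc).inv_left).eq, mul_assoc, mul_smul, mul_smul, ← hσp, inv_smul_smul]
  have hx0T : ∀ c ∈ T, Commute c x0 := fun c hc =>
    ((hTab c hc σ hσ).inv_right).mul_right (hcomm c (hT hc) w0 w0.2)
  have hpow : ∀ i : ℕ, x0 ^ i = (σ ^ i)⁻¹ * (w0 : G) ^ i := fun i => by
    rw [hx0, hcσ.inv_left.mul_pow, inv_pow]
  have hx0pow : ∀ i : ℕ, x0 ^ i = 1 ↔ m ∣ i := by
    intro i
    rw [← hw0, orderOf_dvd_iff_pow_eq_one, hpow, inv_mul_eq_one]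
    constructor
    · intro e
      have h1 : σ ^ i = 1 := hfaith _ (pow_mem (hT hσ) i) fun c hc => by
        rw [e]; exact wGrp_fix_line0 hC (pow_mem w0.2 i) hc
      exact Subtype.ext (by simpa [Subgroup.coe_pow] using (e.symm.trans h1))
    · intro e
      have e' : (w0 : G) ^ i = 1 := by simpa [Subgroup.coe_pow] using congrArg Subtype.val e
      rw [e']
      refine hfree _ (pow_mem (hT hσ) i) p hp ?_
      have h1 : (x0 ^ i) • p = p := by
        induction i with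
        | zero => rw [pow_zero, one_smul]
        | succ i _ =>
          have : ∀ j : ℕ, (x0 ^ j) • p = p := fun j => by
            induction j with
            | zero => rw [pow_zero, one_smul]
            | succ j ih => rw [pow_succ, mul_smul, hx0S p ⟨1, one_mem _, one_smul _ _⟩, ih]
          exact this _
      rw [hpow, e', mul_one, inv_smul_eq_iff] at h1
      exact h1.symm
  -- move two points of `S` to `a` and `t • a`
  have hq := hC.four_le_qq
  obtain ⟨c1, hc1, hc1p⟩ : ∃ c ∈ S, c ≠ p :=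
    Set.exists_ne_of_one_lt_ncard (by rw [hScard]; omega) p
  have hpS : p ∈ S := ⟨1, one_mem _, one_smul _ _⟩
  obtain ⟨g0, hg0a, hg0b⟩ := exists_smul_pair hS hc1p.symm (t_smul_ne hS).symm
  have hfix1 : ∀ c ∈ S, (g0 * x0 * g0⁻¹) • g0 • c = g0 • c := fun c hc => by
    rw [mul_smul, mul_smul, inv_smul_smul, hx0S c hc]
  have hx1D : g0 * x0 * g0⁻¹ ∈ twoPt G a t :=
    mem_twoPt.2 ⟨by have := hfix1 p hpS; rwa [hg0a] at this,
      by have := hfix1 c1 hc1; rwa [hg0b] at this⟩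
  obtain ⟨c2, hc2, hc2p, hc21⟩ : ∃ c ∈ S, c ≠ p ∧ c ≠ c1 := by
    obtain ⟨c, hc, hne⟩ := Set.exists_mem_notMem_of_ncard_lt_ncard (s := {p, c1}) (t := S)
      ((Set.ncard_insert_le _ _).trans_lt (by rw [Set.ncard_singleton, hScard]; omega))
    exact ⟨c, hc, fun e => hne (Or.inl e), fun e => hne (Or.inr e)⟩
  obtain ⟨d, hd, hdt⟩ := S1126.result hS {g0 * x0 * g0⁻¹}
    (by rintro x rfl; exact hx1D) ⟨a, t • a, g0 • c2, (t_smul_ne hS).symm,
      fun e => hc2p (MulAction.injective g0 (e.symm.trans hg0a.symm)),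
      fun e => hc21 (MulAction.injective g0 (e.symm.trans hg0b.symm)),
      fun x hx => by
        rw [Set.mem_singleton_iff.1 hx]
        exact ⟨(mem_twoPt.1 hx1D).1, (mem_twoPt.1 hx1D).2, hfix1 c2 hc2⟩⟩
  set h := d * g0 with hh
  set v := h * x0 * h⁻¹ with hv
  have hv' : v = d * (g0 * x0 * g0⁻¹) * d⁻¹ := by rw [hv, hh]; group
  have hvV : v ∈ vGrp G a t := by
    refine Ctx.mem_vGrp.2 ⟨hv' ▸ mul_mem (mul_mem hd hx1D) (inv_mem hd), ?_⟩
    rw [hv']; exact (hdt _ rfl).symm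
  have hvfix : ∀ i : ℕ, h • S ⊆ fixedBy Ω (v ^ i) := by
    rintro i _ ⟨c, hc, rfl⟩
    show (v ^ i) • h • c = h • c
    induction i with
    | zero => rw [pow_zero, one_smul]
    | succ i ih =>
      rw [pow_succ, mul_smul, hv, mul_smul, mul_smul, inv_smul_smul, hx0S c hc]
      exact ih
  have hhS : (h • S).ncard = qq G a + 1 := by
    rw [show h • S = (fun c => h • c) '' S from rfl,
      Set.ncard_image_of_injective _ (MulAction.injective h), hScard]
  have hvpow : ∀ i : ℕ, v ^ i = 1 ↔ m ∣ i := fun i => by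
    rw [hv, conj_pow, conj_eq_one_iff, hx0pow]
  by_cases hex : ∃ i : ℕ, v ^ i ≠ 1 ∧ v ^ i ∈ wGrp G a t
  · left
    obtain ⟨i, hi1, hiW⟩ := hex
    have hsub : h • S ⊆ line0 G a t := fun c hc => fix_wGrp_subset hC hU hiW hi1 (hvfix i hc)
    have heq : h • S = line0 G a t :=
      Set.eq_of_subset_of_ncard_le hsub (by rw [hhS, hC.ncard_line0])
    exact ⟨h⁻¹, by rw [← heq, inv_smul_smul]⟩
  right
  push Not at hex
  obtain ⟨s, r, hl⟩ := hC.exists_link
  obtain ⟨F, _, _, hF, ⟨X⟩⟩ := hC.exists_zField hl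
  have hordv : orderOf v = m := by
    refine dvd_antisymm (orderOf_dvd_of_pow_eq_one ((hvpow m).2 dvd_rfl)) ?_
    exact (hvpow _).1 (pow_orderOf_eq_one v)
  have haut : orderOf (X.aut v) = m := by
    rw [← hordv]
    refine orderOf_eq_orderOf_iff.2 fun i => ?_
    have e : X.aut v ^ i = X.aut (v ^ i) := (map_pow X.autHom (⟨v, hvV⟩ : vGrp G a t) i).symm
    rw [e]
    constructor
    · intro e1
      by_contra hne
      exact hex i hne ((X.aut_eq_one _ (pow_mem hvV i)).1 e1)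
    · intro e1
      exact (X.aut_eq_one _ (pow_mem hvV i)).2 (e1 ▸ one_mem _)
  have hCQ := hC.free_fixed_Q X hF hU.sq_mem hU.comm_mem hvV
    (by rw [haut]; exact (hvpow m).2 dvd_rfl)
  rw [haut, hU.card] at hCQ
  have hle : qq G a + 1 ≤ Nat.card ↥(Q ⊓ centralizer ({v} : Set G)) + 1 := by
    rw [← hhS]
    refine le_trans (Set.ncard_le_ncard ?_) (ncard_fixed_le hC hvV)
    simpa using hvfix 1
  have hm3 : m = 3 := by
    refine le_antisymm ?_ hW3
    by_contra hlt
    have h1 : qq G a ^ m ≤ qq G a ^ 3 :=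
      hCQ ▸ Nat.pow_le_pow_left (by omega) m
    exact absurd ((Nat.pow_le_pow_iff_right (by omega)).1 h1) hlt
  rw [hm3] at hCQ hordv haut
  have hcardCQ : Nat.card ↥(Q ⊓ centralizer ({v} : Set G)) = qq G a :=
    Nat.pow_left_injective (by norm_num) hCQ
  have hCZ := hC.card_centralizer_pow X hF hvV
  rw [haut] at hCZ
  have hnW : v ∉ wGrp G a t := fun hvW => hex 1
    (by rw [pow_one]; intro e; rw [e, orderOf_one] at hordv; omega) (by rwa [pow_one])
  set q0 := Nat.card ↥(zGrp G a ⊓ centralizer ({v} : Set G)) with hq0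
  have hcases : (qq G a = 8 ∧ q0 = 2) ∨ (qq G a = 512 ∧ q0 = 8) := by
    have h2 : 2 ≤ q0 := by
      by_contra hlt
      have : q0 = 0 ∨ q0 = 1 := by omega
      rcases this with e | e <;> rw [e] at hCZ <;> norm_num at hCZ <;> omega
    rcases h2.eq_or_lt with e | h2
    · left
      exact ⟨by rw [← hCZ, ← e]; norm_num, e.symm⟩
    right
    have hv1 : v ≠ 1 := fun e => by rw [e, orderOf_one] at hordv; omega
    rcases hC.cent_profile IH hvV hv1 h2 with e | e | ⟨-, e⟩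
    · rw [hcardCQ] at e
      rw [← hq0, ← hCZ] at e
      nlinarith [Nat.pow_le_pow_left h2.le 3, e, h2, mul_pos (show 0 < q0 by omega) (show 0 < q0 by omega)]
    · rw [hcardCQ, ← hq0, ← hCZ] at e
      have := Nat.pow_right_injective h2.le e
      omega
    have h9 : q0 + 1 ∣ 9 := by
      refine e.trans ?_
      rw [show (9 : ℕ) = 3 * 3 from rfl]
      refine mul_dvd_mul (Nat.gcd_dvd_left _ _) ?_
      rw [← hm3, hm]
      exact card_dvd_of_le inf_le_left
    have h8 : q0 = 8 := by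
      have := Nat.le_of_dvd (by norm_num) h9
      have h' := Nat.mem_divisors.2 ⟨h9, (by norm_num : (9 : ℕ) ≠ 0)⟩
      rw [show (9 : ℕ).divisors = {1, 3, 9} from by decide] at h'
      simp only [Finset.mem_insert, Finset.mem_singleton] at h'
      omega
    exact ⟨by rw [← hCZ, h8]; norm_num, h8⟩
  refine ⟨v, hvV, hnW, hordv, hm.symm.trans hm3, hcardCQ, hcases, ?_⟩
  -- the image of `h T h⁻¹`
  have hmem : ∀ c ∈ T, h * c * h⁻¹ ∈ centralizer ({v} : Set G) := fun c hc => by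
    refine mem_centralizer_singleton_iff.2 ?_
    rw [hv]
    exact Commute.conj_iff h |>.2 (hx0T c hc)
  let φ : T →* Img Ω v := (toImg Ω v).comp (MonoidHom.mk'
    (fun c : T => (⟨h * c * h⁻¹, hmem c c.2⟩ : centralizer ({v} : Set G)))
    (fun c c' => Subtype.ext
      (show h * (c * c') * h⁻¹ = (h * c * h⁻¹) * (h * c' * h⁻¹) by group)))
  have hFix : ∀ x : fixAct Ω v, ∃ c ∈ S, h • c = (x : Ω) := by
    have he : h • S = fixedBy Ω v := Set.eq_of_subset_of_ncard_le (by simpa using hvfix 1) (by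
      rw [hhS, ← hcardCQ]; exact ncard_fixed_le hC hvV)
    intro x
    have : (x : Ω) ∈ h • S := he ▸ x.2
    exact this
  have hφfix : ∀ c : T, ∀ x : fixAct Ω v, φ c • x = x → c = 1 := by
    intro c x e
    obtain ⟨_, ⟨c', hc', rfl⟩, hx⟩ := hFix x
    have e' : (h * c * h⁻¹) • (x : Ω) = x := congrArg Subtype.val e
    rw [← hx, mul_smul, mul_smul, inv_smul_smul] at e'
    have e2 := MulAction.injective h e'
    rw [← mul_smul, (hTab c c.2 c' hc').eq, mul_smul] at e2
    exact Subtype.ext (hfree c (hT c.2) p hp (MulAction.injective c' e2))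
  refine ⟨φ.range, isCyclic_of_surjective φ.rangeRestrict φ.rangeRestrict_surjective, ?_, ?_⟩
  · rw [← hTcard]
    refine (Nat.card_congr (MonoidHom.ofInjective ?_).toEquiv).symm
    refine (injective_iff_map_eq_one φ).2 fun c hc => hφfix c ⟨a, Ctx.a_mem_fix hvV⟩ ?_
    rw [hc, one_smul]
  · rintro _ ⟨c, rfl⟩ x e
    rw [hφfix c x e, map_one]

end UniLines

end Cfsg.Agent.RankOneClass
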